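import Groth.Prelude.Def_DDual2

/-!
# Pseudo-functoriality of restriction of scalars on derived categories (helper90)

* `mapDCCompIso e : F.mapDerivedCategory ⋙ G.mapDerivedCategory ≅ H.mapDerivedCategory` for
  `e : F ⋙ G ≅ H`;
* `mapDCIdIso e : H.mapDerivedCategory ≅ 𝟭` for `e : H ≅ 𝟭`;
* `resDComp`, `resDId`, and the equivalence `resDEquiv ε` for a ring isomorphism `ε`.
-/

set_option autoImplicit false
set_option linter.unusedSectionVars false
set_option warn.classDefReducibility false
universe u
open CategoryTheory CategoryTheory.Limits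
attribute [local instance] HasDerivedCategory.standard

namespace Groth.Agent.Lib.Helper90.Shriek

section General

variable {C₁ C₂ C₃ : Type (u + 1)} [Category.{u} C₁] [Category.{u} C₂] [Category.{u} C₃]
  [Abelian C₁] [Abelian C₂] [Abelian C₃]
  [HasDerivedCategory C₁] [HasDerivedCategory C₂] [HasDerivedCategory C₃]
  (F : C₁ ⥤ C₂) (G : C₂ ⥤ C₃) (H : C₁ ⥤ C₃)
  [F.Additive] [PreservesFiniteLimits F] [PreservesFiniteColimits F]
  [G.Additive] [PreservesFiniteLimits G] [PreservesFiniteColimits G]
  [H.Additive] [PreservesFiniteLimits H] [PreservesFiniteColimits H]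

/-- lifting datum for a composite -/
noncomputable def liftingComp :
    Localization.Lifting (DerivedCategory.Q (C := C₁))
      (HomologicalComplex.quasiIso C₁ (ComplexShape.up ℤ))
      (F.mapHomologicalComplex (ComplexShape.up ℤ) ⋙
        G.mapHomologicalComplex (ComplexShape.up ℤ) ⋙ DerivedCategory.Q)
      (F.mapDerivedCategory ⋙ G.mapDerivedCategory) :=
  ⟨(Functor.associator _ _ _).symm ≪≫
    Functor.isoWhiskerRight F.mapDerivedCategoryFactors _ ≪≫
      Functor.associator _ _ _ ≪≫
        Functor.isoWhiskerLeft _ G.mapDerivedCategoryFactors⟩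

variable {F G H}

/-- `F ⋙ G ≅ H` induces `F.mapDerivedCategory ⋙ G.mapDerivedCategory ≅ H.mapDerivedCategory`. -/
noncomputable def mapDCCompIso (e : F ⋙ G ≅ H) :
    F.mapDerivedCategory ⋙ G.mapDerivedCategory ≅ H.mapDerivedCategory :=
  Localization.liftNatIso (DerivedCategory.Q (C := C₁))
    (HomologicalComplex.quasiIso C₁ (ComplexShape.up ℤ)) _ _ _ _
    (h₁ := liftingComp F G)
    ((Functor.associator _ _ _).symm ≪≫
      Functor.isoWhiskerRight (Functor.mapHomologicalComplexCompIso e (ComplexShape.up ℤ)) _)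

end General

section Id

variable {C₁ : Type (u + 1)} [Category.{u} C₁] [Abelian C₁] [HasDerivedCategory C₁]
  {H : C₁ ⥤ C₁} [H.Additive] [PreservesFiniteLimits H] [PreservesFiniteColimits H]

/-- `H ≅ 𝟭` induces `H.mapDerivedCategory ≅ 𝟭`. -/
noncomputable def mapDCIdIso (e : H ≅ 𝟭 C₁) : H.mapDerivedCategory ≅ 𝟭 (DerivedCategory C₁) :=
  Localization.liftNatIso (DerivedCategory.Q (C := C₁))
    (HomologicalComplex.quasiIso C₁ (ComplexShape.up ℤ))
    (H.mapHomologicalComplex (ComplexShape.up ℤ) ⋙ DerivedCategory.Q) DerivedCategory.Q _ _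
    (Functor.isoWhiskerRight (NatIso.mapHomologicalComplex e (ComplexShape.up ℤ) ≪≫
      Functor.mapHomologicalComplexIdIso C₁ (ComplexShape.up ℤ)) _ ≪≫ Functor.leftUnitor _)

end Id

section Rings

variable {B C E : Type u} [CommRing B] [CommRing C] [CommRing E]

/-- composition of restrictions -/
noncomputable def resDComp (f : B →+* C) (g : C →+* E) (gf : B →+* E) (h : gf = g.comp f) :
    DRing.restrictD g ⋙ DRing.restrictD f ≅ DRing.restrictD gf :=
  mapDCCompIso (ModuleCat.restrictScalarsComp'.{u} f g gf h).symm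

/-- restriction along the identity -/
noncomputable def resDId (f : B →+* B) (h : f = RingHom.id B) : DRing.restrictD f ≅ 𝟭 (Dual.D B) :=
  mapDCIdIso (ModuleCat.restrictScalarsId'.{u} f h)

/-- restriction along a ring isomorphism is an equivalence -/
noncomputable def resDEquiv (ε : B ≃+* C) : Dual.D C ≌ Dual.D B :=
  CategoryTheory.Equivalence.mk (DRing.restrictD ε.toRingHom) (DRing.restrictD ε.symm.toRingHom)
    ((resDComp ε.symm.toRingHom ε.toRingHom (RingHom.id C)
        (by ext x; exact (ε.apply_symm_apply x).symm) ≪≫ resDId _ rfl).symm)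
    (resDComp ε.toRingHom ε.symm.toRingHom (RingHom.id B)
        (by ext x; exact (ε.symm_apply_apply x).symm) ≪≫ resDId _ rfl)

instance (ε : B ≃+* C) : (DRing.restrictD ε.symm.toRingHom).IsEquivalence :=
  (resDEquiv ε).isEquivalence_inverse

end Rings

end Groth.Agent.Lib.Helper90.Shriek
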