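import Groth.Agent.Lib.Helper90.Shriek.KeyLemma
import Groth.Agent.Lib.Helper90.Shriek.ResD

/-!
# The invariant used to compare presentations (helper90)

`Inv K₀ κ v a W`: the object `W` of `D(A)` is the value at `(S ⊗_R K₀)[a]` of a (pointwise) right
adjoint of restriction of scalars along `v : S → A`, where `κ : R → S`.
-/

set_option autoImplicit false
set_option linter.unusedSectionVars false
set_option linter.style.haveILetI false
universe u
open CategoryTheory CategoryTheory.Limits DerivedCategory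
attribute [local instance] HasDerivedCategory.standard

namespace Groth.Agent.Lib.Helper90.Shriek

variable {R A : Type u} [CommRing R] [CommRing A] (K₀ : DRing.Cx R)

/-- the invariant -/
def Inv {S : Type u} [CommRing S] (κ : R →+* S) (v : S →+* A) (a : ℤ) (W : Dual.D A) : Prop :=
  ∃ c : (DRing.restrictD v).obj W ⟶ (Q.obj ((DTen.extCx κ).obj K₀))⟦a⟧,
    IsUniv (DRing.restrictD v) ((Q.obj ((DTen.extCx κ).obj K₀))⟦a⟧) W c

section Step1

variable {P T : Type u} [CommRing P] [CommRing T]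

/-- `T ⊗_P (P ⊗_R K₀) ≅ T ⊗_R K₀` on complexes -/
noncomputable def extCompIso (κ₀ : R →+* P) (ι : P →+* T) :
    (DTen.extCx ι).obj ((DTen.extCx κ₀).obj K₀) ≅ (DTen.extCx (ι.comp κ₀)).obj K₀ :=
  HomologicalComplex.Hom.isoOfComponents
    (fun i => ((ModuleCat.extendScalarsComp κ₀ ι).app (K₀.X i)).symm)
    (fun i j _ => ((ModuleCat.extendScalarsComp κ₀ ι).inv.naturality (K₀.d i j)).symm)

lemma Inv.step (D : SecData P T) (κ₀ : R →+* P) (v : P →+* A) (a : ℤ) (W : Dual.D A)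
    (h : Inv K₀ κ₀ v a W) : Inv K₀ (D.ι.comp κ₀) (v.comp D.θ) (a + 1) W := by
  obtain ⟨c, hc⟩ := h
  have hk := (D.isUniv_cArrow ((DTen.extCx κ₀).obj K₀)).shift a
  have h1 := (hk.comp hc).of_natIso (resDComp D.θ v (v.comp D.θ) rfl)
  let e : ((Q.obj ((DTen.extCx D.ι).obj ((DTen.extCx κ₀).obj K₀)))⟦(1 : ℤ)⟧)⟦a⟧ ≅
      (Q.obj ((DTen.extCx (D.ι.comp κ₀)).obj K₀))⟦a + 1⟧ :=
    ((shiftFunctorAdd' (Dual.D T) (1 : ℤ) a (a + 1) (add_comm 1 a)).app _).symm ≪≫
      (shiftFunctor (Dual.D T) (a + 1)).mapIso (Q.mapIso (extCompIso K₀ κ₀ D.ι))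
  exact ⟨_, h1.of_iso_target e⟩

end Step1

section Step2

variable {S S' : Type u} [CommRing S] [CommRing S']

/-- restricting `S ⊗_R M` along `ε⁻¹` is `S' ⊗_R M`. -/
noncomputable def extResIso (ε : S ≃+* S') (κ : R →+* S) :
    ModuleCat.extendScalars.{u, u, u} κ ⋙ ModuleCat.restrictScalars.{u} ε.symm.toRingHom ≅
      ModuleCat.extendScalars.{u, u, u} (ε.toRingHom.comp κ) :=
  Adjunction.leftAdjointUniq
    ((ModuleCat.extendRestrictScalarsAdj.{u, u, u} κ).comp
      (ModuleCat.restrictScalarsEquivalenceOfRingEquiv.{u} ε).symm.toAdjunction)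
    ((ModuleCat.extendRestrictScalarsAdj.{u, u, u} (ε.toRingHom.comp κ)).ofNatIsoRight
      (ModuleCat.restrictScalarsComp.{u} κ ε.toRingHom))

/-- the same on complexes -/
noncomputable def extResIsoCx (ε : S ≃+* S') (κ : R →+* S) :
    (DTen.resCx ε.symm.toRingHom).obj ((DTen.extCx κ).obj K₀) ≅
      (DTen.extCx (ε.toRingHom.comp κ)).obj K₀ :=
  HomologicalComplex.Hom.isoOfComponents
    (fun i => (extResIso ε κ).app (K₀.X i))
    (fun i j _ => ((extResIso ε κ).hom.naturality (K₀.d i j)).symm)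

lemma Inv.transport (ε : S ≃+* S') (κ : R →+* S) (v : S →+* A) (a : ℤ) (W : Dual.D A)
    (h : Inv K₀ κ v a W) :
    Inv K₀ (ε.toRingHom.comp κ) (v.comp ε.symm.toRingHom) a W := by
  obtain ⟨c, hc⟩ := h
  have h1 := (hc.of_fullyFaithful (DRing.restrictD ε.symm.toRingHom)).of_natIso
    (resDComp ε.symm.toRingHom v (v.comp ε.symm.toRingHom) rfl)
  let e : (DRing.restrictD ε.symm.toRingHom).obj ((Q.obj ((DTen.extCx κ).obj K₀))⟦a⟧) ≅
      (Q.obj ((DTen.extCx (ε.toRingHom.comp κ)).obj K₀))⟦a⟧ :=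
    ((DRing.restrictD ε.symm.toRingHom).commShiftIso a).app _ ≪≫
      (shiftFunctor (Dual.D S') a).mapIso
        ((DTen.resFactors ε.symm.toRingHom).app _ ≪≫ Q.mapIso (extResIsoCx K₀ ε κ))
  exact ⟨_, h1.of_iso_target e⟩

end Step2

end Groth.Agent.Lib.Helper90.Shriek
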