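import Groth.Agent.Lib.Helper90.Shriek.PolyBC

/-!
# Flat base change of a polynomial presentation (helper90)

`R → R'` flat, `ψ : R[x_1..x_n] → A` surjective, `A' = R' ⊗_R A`, `ψ' : R'[x_1..x_n] → A'` the base
change of `ψ`.  Then `(RHom_P(A, K ⊗ P)[n]) ⊗_A A'` satisfies the invariant for `ψ'`.
-/

set_option autoImplicit false
set_option linter.unusedSectionVars false
set_option linter.style.haveILetI false
universe u
open CategoryTheory CategoryTheory.Limits DerivedCategory
open scoped TensorProduct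
attribute [local instance] HasDerivedCategory.standard
attribute [local instance] MvPolynomial.algebraMvPolynomial
attribute [local instance] Algebra.TensorProduct.rightAlgebra

namespace Groth.Agent.Lib.Helper90.Shriek

section Setup

variable (R R' A : Type u) [CommRing R] [CommRing R'] [CommRing A] [Algebra R R'] [Algebra R A]
  (n : ℕ) (ψ : MvPolynomial (Fin n) R →ₐ[R] A)

/-- the base change of a presentation -/
noncomputable def psiBC : MvPolynomial (Fin n) R' →ₐ[R'] (R' ⊗[R] A) :=
  MvPolynomial.aeval (fun i => (1 : R') ⊗ₜ[R] ψ (MvPolynomial.X i))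

lemma psiBC_map (p : MvPolynomial (Fin n) R) :
    psiBC R R' A n ψ (MvPolynomial.map (algebraMap R R') p) = (1 : R') ⊗ₜ[R] ψ p := by
  induction p using MvPolynomial.induction_on with
  | C r =>
    rw [MvPolynomial.map_C]
    change MvPolynomial.aeval _ (MvPolynomial.C _) = _
    rw [MvPolynomial.aeval_C]
    have h1 : ψ (MvPolynomial.C r) = algebraMap R A r := ψ.commutes r
    rw [h1, Algebra.TensorProduct.algebraMap_apply, Algebra.algebraMap_self, RingHom.id_apply,
      Algebra.algebraMap_eq_smul_one r, Algebra.algebraMap_eq_smul_one (A := A) r,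
      TensorProduct.smul_tmul]
  | add p q hp hq =>
    rw [map_add, map_add, hp, hq, map_add, TensorProduct.tmul_add]
  | mul_X p i hp =>
    rw [map_mul, map_mul, hp, MvPolynomial.map_X, map_mul]
    change _ * MvPolynomial.aeval _ (MvPolynomial.X i) = _
    rw [MvPolynomial.aeval_X, Algebra.TensorProduct.tmul_mul_tmul, mul_one]

lemma psiBC_surjective (hψ : Function.Surjective ψ) : Function.Surjective (psiBC R R' A n ψ) := by
  intro x
  induction x using TensorProduct.induction_on with
  | zero => exact ⟨0, map_zero _⟩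
  | tmul r a =>
    obtain ⟨q, rfl⟩ := hψ a
    refine ⟨MvPolynomial.C r * MvPolynomial.map (algebraMap R R') q, ?_⟩
    rw [map_mul, psiBC_map]
    change MvPolynomial.aeval _ (MvPolynomial.C r) * _ = _
    rw [MvPolynomial.aeval_C, Algebra.TensorProduct.algebraMap_apply,
      Algebra.TensorProduct.tmul_mul_tmul, mul_one, one_mul]
    rfl
  | add x y hx hy =>
    obtain ⟨p, rfl⟩ := hx
    obtain ⟨q, rfl⟩ := hy
    exact ⟨p + q, map_add _ _ _⟩

end Setup

section Main

variable (R R' A : Type u) [CommRing R] [CommRing R'] [CommRing A] [IsNoetherianRing R]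
  [Algebra R R'] [Module.Flat R R'] [Algebra R A]
  (n : ℕ) (ψ : MvPolynomial (Fin n) R →ₐ[R] A) (hψ : Function.Surjective ψ)
  [DRing.HasLBaseChange (algebraMap R (MvPolynomial (Fin n) R))]
  (Rψ : Dual.D (MvPolynomial (Fin n) R) ⥤ Dual.D A) (adj : DRing.restrictD ψ.toRingHom ⊣ Rψ)
  [DRing.HasLBaseChange (Algebra.TensorProduct.includeRight : A →ₐ[R] R' ⊗[R] A).toRingHom]
  (K₀ : DRing.Cx R) [K₀.IsKProjective] (K : Dual.D R) (eK : Q.obj K₀ ≅ K) (c : ℤ)
  (hK : ∀ i : ℤ, i < c → Subsingleton (Dual.HD R K i))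

include hψ adj eK hK in
theorem Inv.flatBC :
    Inv ((DTen.extCx (algebraMap R R')).obj K₀) (algebraMap R' (MvPolynomial (Fin n) R'))
      (psiBC R R' A n ψ).toRingHom (n : ℤ)
      ((DRing.LBaseChange (Algebra.TensorProduct.includeRight : A →ₐ[R] R' ⊗[R] A).toRingHom).obj
        (Dual2.shriekVia n Rψ K)) := by
  letI : Algebra (MvPolynomial (Fin n) R) A := ψ.toRingHom.toAlgebra
  letI : Algebra (MvPolynomial (Fin n) R') (R' ⊗[R] A) := (psiBC R R' A n ψ).toRingHom.toAlgebra
  letI : Algebra (MvPolynomial (Fin n) R) (R' ⊗[R] A) :=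
    ((algebraMap A (R' ⊗[R] A)).comp (algebraMap (MvPolynomial (Fin n) R) A)).toAlgebra
  haveI : IsScalarTower R (MvPolynomial (Fin n) R) A :=
    IsScalarTower.of_algebraMap_eq (fun r => (ψ.commutes r).symm)
  haveI : IsScalarTower (MvPolynomial (Fin n) R) A (R' ⊗[R] A) :=
    IsScalarTower.of_algebraMap_eq (fun x => rfl)
  haveI : IsScalarTower (MvPolynomial (Fin n) R) (MvPolynomial (Fin n) R') (R' ⊗[R] A) :=
    IsScalarTower.of_algebraMap_eq (fun x => (psiBC_map R R' A n ψ x).symm)
  haveI : IsScalarTower R' (MvPolynomial (Fin n) R') (R' ⊗[R] A) :=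
    IsScalarTower.of_algebraMap_eq (fun r => ((psiBC R R' A n ψ).commutes r).symm)
  haveI : IsScalarTower R (MvPolynomial (Fin n) R') (R' ⊗[R] A) :=
    IsScalarTower.of_algebraMap_eq (fun r => by
      rw [IsScalarTower.algebraMap_apply R R' (R' ⊗[R] A),
        IsScalarTower.algebraMap_apply R R' (MvPolynomial (Fin n) R'),
        ← IsScalarTower.algebraMap_apply R' (MvPolynomial (Fin n) R') (R' ⊗[R] A)])
  haveI : Algebra.IsPushout (MvPolynomial (Fin n) R) A (MvPolynomial (Fin n) R') (R' ⊗[R] A) :=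
    (Algebra.IsPushout.comp_iff R (MvPolynomial (Fin n) R) R' (S' := MvPolynomial (Fin n) R')
      (T := A) (T' := R' ⊗[R] A)).mp inferInstance
  haveI : Module.Flat (MvPolynomial (Fin n) R) (MvPolynomial (Fin n) R') :=
    Module.Flat.isBaseChange R (MvPolynomial (Fin n) R) R' (MvPolynomial (Fin n) R')
      (Algebra.IsPushout.out (R := R) (S := MvPolynomial (Fin n) R) (R' := R')
        (S' := MvPolynomial (Fin n) R'))
  haveI : Module.Finite (MvPolynomial (Fin n) R) A :=
    Module.Finite.of_surjective (Algebra.linearMap (MvPolynomial (Fin n) R) A) hψ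
  haveI : DRing.HasLBaseChange (algebraMap A (R' ⊗[R] A)) :=
    ‹DRing.HasLBaseChange (Algebra.TensorProduct.includeRight : A →ₐ[R] R' ⊗[R] A).toRingHom›
  haveI := hasLBaseChange (algebraMap (MvPolynomial (Fin n) R) (MvPolynomial (Fin n) R'))
  obtain ⟨Rφ', ⟨adj'⟩⟩ := exists_rightAdjoint_restrictD
    (algebraMap (MvPolynomial (Fin n) R') (R' ⊗[R] A))
  have hflat : (algebraMap R (MvPolynomial (Fin n) R)).Flat := by
    rw [RingHom.flat_algebraMap_iff]
    infer_instance
  haveI : ((DRing.LBaseChange (algebraMap R (MvPolynomial (Fin n) R))).obj K).IsGE c :=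
    isGE_lbc_of_flat _ hflat K c hK
  have adj₀ : DRing.restrictD (algebraMap (MvPolynomial (Fin n) R) A) ⊣ Rψ := adj
  obtain ⟨bc⟩ := nonempty_flat_bc_iso (MvPolynomial (Fin n) R) A (MvPolynomial (Fin n) R')
    (R' ⊗[R] A) adj₀ adj' ((DRing.LBaseChange (algebraMap R (MvPolynomial (Fin n) R))).obj K) c
  have u₀ := isUniv_counit adj'
    ((DRing.LBaseChange (algebraMap (MvPolynomial (Fin n) R) (MvPolynomial (Fin n) R'))).obj
      ((DRing.LBaseChange (algebraMap R (MvPolynomial (Fin n) R))).obj K))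
  have u₁ := u₀.of_iso_source bc
  haveI : ((DTen.extCx (algebraMap R (MvPolynomial (Fin n) R))).obj K₀).IsKProjective :=
    Groth.Agent.Lib.Helper26.AdjKProj.isKProjective_map
      (ModuleCat.extendRestrictScalarsAdj.{u, u, u} (algebraMap R (MvPolynomial (Fin n) R))) K₀
  let eZ : (DRing.LBaseChange (algebraMap R (MvPolynomial (Fin n) R))).obj K ≅
      Q.obj ((DTen.extCx (algebraMap R (MvPolynomial (Fin n) R))).obj K₀) :=
    (DRing.LBaseChange (algebraMap R (MvPolynomial (Fin n) R))).mapIso eK.symm ≪≫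
      Groth.Agent.Lib.Helper32.LBC.lbcIso (algebraMap R (MvPolynomial (Fin n) R)) K₀
  have hcomp : (algebraMap (MvPolynomial (Fin n) R) (MvPolynomial (Fin n) R')).comp
      (algebraMap R (MvPolynomial (Fin n) R)) =
      (algebraMap R' (MvPolynomial (Fin n) R')).comp (algebraMap R R') := by
    rw [← IsScalarTower.algebraMap_eq R (MvPolynomial (Fin n) R) (MvPolynomial (Fin n) R'),
      ← IsScalarTower.algebraMap_eq R R' (MvPolynomial (Fin n) R')]
  let eZ' : (DRing.LBaseChange
      (algebraMap (MvPolynomial (Fin n) R) (MvPolynomial (Fin n) R'))).obj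
      ((DRing.LBaseChange (algebraMap R (MvPolynomial (Fin n) R))).obj K) ≅
      Q.obj ((DTen.extCx (algebraMap R' (MvPolynomial (Fin n) R'))).obj
        ((DTen.extCx (algebraMap R R')).obj K₀)) :=
    (DRing.LBaseChange
      (algebraMap (MvPolynomial (Fin n) R) (MvPolynomial (Fin n) R'))).mapIso eZ ≪≫
      Groth.Agent.Lib.Helper32.LBC.lbcIso
        (algebraMap (MvPolynomial (Fin n) R) (MvPolynomial (Fin n) R')) _ ≪≫
      Q.mapIso (extCompIso K₀ (algebraMap R (MvPolynomial (Fin n) R))
        (algebraMap (MvPolynomial (Fin n) R) (MvPolynomial (Fin n) R'))) ≪≫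
      Q.mapIso (eqToIso (by rw [hcomp])) ≪≫
      Q.mapIso (extCompIso K₀ (algebraMap R R') (algebraMap R' (MvPolynomial (Fin n) R'))).symm
  have u₃ := (u₁.of_iso_target eZ').shift (n : ℤ)
  letI := Groth.Agent.Lib.Helper6.LBCPC.lbcCommShift (algebraMap A (R' ⊗[R] A))
  have u₄ := u₃.of_iso_source
    (((DRing.LBaseChange (algebraMap A (R' ⊗[R] A))).commShiftIso (n : ℤ)).app
      (Rψ.obj ((DRing.LBaseChange (algebraMap R (MvPolynomial (Fin n) R))).obj K)))
  exact ⟨_, u₄⟩

end Main

end Groth.Agent.Lib.Helper90.Shriek
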