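import Groth.Agent.Lib.Helper20.TorBc
import Groth.Agent.Lib.Helper82.RegTor
import Groth.Prelude.Def_DRing2

/-!
# Tor independence over a flat extension (helper90)

`R → P` flat, `A` a `P`-algebra which is flat over `R`, `P' = P ⊗_R M`.  Then
`Tor^P_p(A, P') = 0` for `p ≥ 1`.
-/

set_option autoImplicit false
set_option linter.unusedSectionVars false
set_option linter.style.haveILetI false
universe u
open CategoryTheory CategoryTheory.Limits MonoidalCategory
open scoped TensorProduct

namespace Groth.Agent.Lib.Helper90.Shriek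

theorem tor_of_isBaseChange (R P A : Type u) [CommRing R] [CommRing P] [CommRing A]
    [Algebra R P] [Algebra P A] [Algebra R A] [IsScalarTower R P A] [Module.Flat R P]
    [Module.Flat R A]
    (M P' : Type u) [AddCommGroup M] [Module R M] [AddCommGroup P'] [Module P P'] [Module R P']
    [IsScalarTower R P P'] (f : M →ₗ[R] P') (hf : IsBaseChange P f) (p : ℕ) (hp : 1 ≤ p) :
    Subsingleton (DRing.Tor P p A P') := by
  obtain ⟨q, rfl⟩ : ∃ q, p = q + 1 := ⟨p - 1, by omega⟩
  let e : (ModuleCat.extendScalars.{u, u, u} (algebraMap R P)).obj (ModuleCat.of R M) ≅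
      ModuleCat.of P P' :=
    ((Groth.Agent.Lib.Helper12.FlatCx.extendScalarsObjEquiv (S := P) (ModuleCat.of R M)).trans
      hf.equiv).toModuleIso
  have e1 := ((Tor (ModuleCat.{u} P) (q + 1)).obj (ModuleCat.of P A)).mapIso e
  have e2 := Groth.Agent.Lib.Helper20.TorBc.torBcRestrictIso (A := R) (A' := P) A
    (ModuleCat.of R M) (q + 1)
  haveI : Module.Flat R (ModuleCat.of R A) := inferInstanceAs (Module.Flat R A)
  have hz := Groth.Agent.Lib.Helper82.RegTor.isZero_T_of_flat (ModuleCat.of R A)
    (ModuleCat.of R M) q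
  have hz2 := hz.of_iso e2
  haveI : Subsingleton (((Tor (ModuleCat.{u} P) (q + 1)).obj (ModuleCat.of P A)).obj
      ((ModuleCat.extendScalars.{u, u, u} (algebraMap R P)).obj (ModuleCat.of R M))) :=
    (ModuleCat.subsingleton_of_isZero hz2 :)
  have hz3 : IsZero (((Tor (ModuleCat.{u} P) (q + 1)).obj (ModuleCat.of P A)).obj
      ((ModuleCat.extendScalars.{u, u, u} (algebraMap R P)).obj (ModuleCat.of R M))) :=
    ModuleCat.isZero_of_subsingleton _
  exact ModuleCat.subsingleton_of_isZero (hz3.of_iso e1.symm)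

end Groth.Agent.Lib.Helper90.Shriek
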