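import Groth.Agent.Lib.Helper90.Shriek.FlatBC
import Groth.Agent.Lib.Helper90.Shriek.TorPoly
import Groth.Agent.Lib.Helper35.PolyFTD
import Groth.Agent.S13549

/-!
# Base change of a polynomial presentation of a flat algebra (helper90)

`R → A` flat of finite type, `R → R'` arbitrary, `ψ : R[x_1..x_n] → A` surjective, `A' = R' ⊗_R A`.
Then `(RHom_P(A, K ⊗ P)[n]) ⊗_A A'` satisfies the invariant for the base change `ψ'` of `ψ`.
-/

set_option autoImplicit false
set_option linter.unusedSectionVars false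
set_option linter.style.haveILetI false
universe u
open CategoryTheory CategoryTheory.Limits DerivedCategory
open scoped TensorProduct
attribute [local instance] HasDerivedCategory.standard
attribute [local instance] MvPolynomial.algebraMvPolynomial
attribute [local instance] Algebra.TensorProduct.rightAlgebra

namespace Groth.Agent.Lib.Helper90.Shriek

section BC

variable (R A R' A' : Type u) [CommRing R] [CommRing A] [CommRing R'] [CommRing A']
  [Algebra R A] [Algebra R R'] [Algebra A A'] [Algebra R' A'] [Algebra R A']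
  [IsScalarTower R A A'] [IsScalarTower R R' A'] [Algebra.IsPushout R A R' A']
  [DRing.HasLBaseChange (algebraMap R R')] [DRing.HasLBaseChange (algebraMap A A')]
  {Rφ : Dual.D R ⥤ Dual.D A} (adj : DRing.restrictD (algebraMap R A) ⊣ Rφ)
  {Rφ' : Dual.D R' ⥤ Dual.D A'} (adj' : DRing.restrictD (algebraMap R' A') ⊣ Rφ')

include adj adj' in
theorem nonempty_perf_bc_iso (hperf : DRing.IsPerfectModule R A)
    (htor : ∀ p : ℕ, 1 ≤ p → Subsingleton (DRing.Tor R p A R')) (K : Dual.D R) :
    Nonempty ((DRing.LBaseChange (algebraMap A A')).obj (Rφ.obj K) ≅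
      Rφ'.obj ((DRing.LBaseChange (algebraMap R R')).obj K)) := by
  have h : (algebraMap A A').comp (algebraMap R A) =
      (algebraMap R' A').comp (algebraMap R R') := by
    rw [← IsScalarTower.algebraMap_eq R A A', ← IsScalarTower.algebraMap_eq R R' A']
  have hc := Groth.Agent.S13563.result R A R' A' htor
    (Groth.Agent.Lib.Helper6.LBCPC.lbcAdj (algebraMap R R'))
    (Groth.Agent.Lib.Helper6.LBCPC.lbcAdj (algebraMap A A')) h (Rφ.obj K)
  haveI := Groth.Agent.S13549.result R A R' A' hperf htor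
    (Groth.Agent.Lib.Helper6.LBCPC.lbcAdj (algebraMap R R'))
    (Groth.Agent.Lib.Helper6.LBCPC.lbcAdj (algebraMap A A')) h Rφ adj Rφ' adj' K hc
  exact ⟨asIso (TrivBC.bcMap (Groth.Agent.Lib.Helper6.LBCPC.lbcAdj (algebraMap R R'))
    (Groth.Agent.Lib.Helper6.LBCPC.lbcAdj (algebraMap A A')) h adj adj' K hc)⟩

end BC

section Main

variable (R R' A : Type u) [CommRing R] [CommRing R'] [CommRing A] [IsNoetherianRing R]
  [Algebra R R'] [Algebra R A] [Module.Flat R A]
  (n : ℕ) (ψ : MvPolynomial (Fin n) R →ₐ[R] A) (hψ : Function.Surjective ψ)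
  [DRing.HasLBaseChange (algebraMap R (MvPolynomial (Fin n) R))]
  (Rψ : Dual.D (MvPolynomial (Fin n) R) ⥤ Dual.D A) (adj : DRing.restrictD ψ.toRingHom ⊣ Rψ)
  [DRing.HasLBaseChange (Algebra.TensorProduct.includeRight : A →ₐ[R] R' ⊗[R] A).toRingHom]
  (K₀ : DRing.Cx R) [K₀.IsKProjective] (K : Dual.D R) (eK : Q.obj K₀ ≅ K)

include hψ adj eK in
theorem Inv.flatBC' :
    Inv ((DTen.extCx (algebraMap R R')).obj K₀) (algebraMap R' (MvPolynomial (Fin n) R'))
      (psiBC R R' A n ψ).toRingHom (n : ℤ)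
      ((DRing.LBaseChange (Algebra.TensorProduct.includeRight : A →ₐ[R] R' ⊗[R] A).toRingHom).obj
        (Dual2.shriekVia n Rψ K)) := by
  letI : Algebra (MvPolynomial (Fin n) R) A := ψ.toRingHom.toAlgebra
  letI : Algebra (MvPolynomial (Fin n) R') (R' ⊗[R] A) := (psiBC R R' A n ψ).toRingHom.toAlgebra
  letI : Algebra (MvPolynomial (Fin n) R) (R' ⊗[R] A) :=
    ((algebraMap A (R' ⊗[R] A)).comp (algebraMap (MvPolynomial (Fin n) R) A)).toAlgebra
  haveI : IsScalarTower R (MvPolynomial (Fin n) R) A :=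
    IsScalarTower.of_algebraMap_eq (fun r => (ψ.commutes r).symm)
  haveI : IsScalarTower (MvPolynomial (Fin n) R) A (R' ⊗[R] A) :=
    IsScalarTower.of_algebraMap_eq (fun x => rfl)
  haveI : IsScalarTower (MvPolynomial (Fin n) R) (MvPolynomial (Fin n) R') (R' ⊗[R] A) :=
    IsScalarTower.of_algebraMap_eq (fun x => (psiBC_map R R' A n ψ x).symm)
  haveI : IsScalarTower R' (MvPolynomial (Fin n) R') (R' ⊗[R] A) :=
    IsScalarTower.of_algebraMap_eq (fun r => ((psiBC R R' A n ψ).commutes r).symm)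
  haveI : IsScalarTower R (MvPolynomial (Fin n) R') (R' ⊗[R] A) :=
    IsScalarTower.of_algebraMap_eq (fun r => by
      rw [IsScalarTower.algebraMap_apply R R' (R' ⊗[R] A),
        IsScalarTower.algebraMap_apply R R' (MvPolynomial (Fin n) R'),
        ← IsScalarTower.algebraMap_apply R' (MvPolynomial (Fin n) R') (R' ⊗[R] A)])
  haveI : Algebra.IsPushout (MvPolynomial (Fin n) R) A (MvPolynomial (Fin n) R') (R' ⊗[R] A) :=
    (Algebra.IsPushout.comp_iff R (MvPolynomial (Fin n) R) R' (S' := MvPolynomial (Fin n) R')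
      (T := A) (T' := R' ⊗[R] A)).mp inferInstance
  haveI : Module.Finite (MvPolynomial (Fin n) R) A :=
    Module.Finite.of_surjective (Algebra.linearMap (MvPolynomial (Fin n) R) A) hψ
  haveI : DRing.HasLBaseChange (algebraMap A (R' ⊗[R] A)) :=
    ‹DRing.HasLBaseChange (Algebra.TensorProduct.includeRight : A →ₐ[R] R' ⊗[R] A).toRingHom›
  haveI := hasLBaseChange (algebraMap (MvPolynomial (Fin n) R) (MvPolynomial (Fin n) R'))
  obtain ⟨Rφ', ⟨adj'⟩⟩ := exists_rightAdjoint_restrictD
    (algebraMap (MvPolynomial (Fin n) R') (R' ⊗[R] A))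
  have adj₀ : DRing.restrictD (algebraMap (MvPolynomial (Fin n) R) A) ⊣ Rψ := adj
  -- perfectness and tor independence
  have hpc : DRing.IsPseudoCoherentModule' (MvPolynomial (Fin n) R) A :=
    Groth.Agent.Lib.Helper35.KL.isPseudoCoherent'_single_of_finite_of_isNoetherianRing
      (ModuleCat.of (MvPolynomial (Fin n) R) A)
  have hperf : DRing.IsPerfectModule (MvPolynomial (Fin n) R) A :=
    Groth.Agent.Lib.Helper35.PolyFTD.isPerfectModule_of_isPerfectHom R A n ψ hpc
      (Groth.Agent.Lib.Helper35.FTD.of_flat A)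
  have htor : ∀ p : ℕ, 1 ≤ p →
      Subsingleton (DRing.Tor (MvPolynomial (Fin n) R) p A (MvPolynomial (Fin n) R')) :=
    fun p hp => tor_of_isBaseChange R (MvPolynomial (Fin n) R) A R' (MvPolynomial (Fin n) R')
      (IsScalarTower.toAlgHom R R' (MvPolynomial (Fin n) R')).toLinearMap
      (Algebra.IsPushout.out (R := R) (S := MvPolynomial (Fin n) R) (R' := R')
        (S' := MvPolynomial (Fin n) R')) p hp
  obtain ⟨bc⟩ := nonempty_perf_bc_iso (MvPolynomial (Fin n) R) A (MvPolynomial (Fin n) R')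
    (R' ⊗[R] A) adj₀ adj' hperf htor
    ((DRing.LBaseChange (algebraMap R (MvPolynomial (Fin n) R))).obj K)
  have u₀ := isUniv_counit adj'
    ((DRing.LBaseChange (algebraMap (MvPolynomial (Fin n) R) (MvPolynomial (Fin n) R'))).obj
      ((DRing.LBaseChange (algebraMap R (MvPolynomial (Fin n) R))).obj K))
  have u₁ := u₀.of_iso_source bc
  haveI : ((DTen.extCx (algebraMap R (MvPolynomial (Fin n) R))).obj K₀).IsKProjective :=
    Groth.Agent.Lib.Helper26.AdjKProj.isKProjective_map
      (ModuleCat.extendRestrictScalarsAdj.{u, u, u} (algebraMap R (MvPolynomial (Fin n) R))) K₀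
  let eZ : (DRing.LBaseChange (algebraMap R (MvPolynomial (Fin n) R))).obj K ≅
      Q.obj ((DTen.extCx (algebraMap R (MvPolynomial (Fin n) R))).obj K₀) :=
    (DRing.LBaseChange (algebraMap R (MvPolynomial (Fin n) R))).mapIso eK.symm ≪≫
      Groth.Agent.Lib.Helper32.LBC.lbcIso (algebraMap R (MvPolynomial (Fin n) R)) K₀
  have hcomp : (algebraMap (MvPolynomial (Fin n) R) (MvPolynomial (Fin n) R')).comp
      (algebraMap R (MvPolynomial (Fin n) R)) =
      (algebraMap R' (MvPolynomial (Fin n) R')).comp (algebraMap R R') := by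
    rw [← IsScalarTower.algebraMap_eq R (MvPolynomial (Fin n) R) (MvPolynomial (Fin n) R'),
      ← IsScalarTower.algebraMap_eq R R' (MvPolynomial (Fin n) R')]
  let eZ' : (DRing.LBaseChange
      (algebraMap (MvPolynomial (Fin n) R) (MvPolynomial (Fin n) R'))).obj
      ((DRing.LBaseChange (algebraMap R (MvPolynomial (Fin n) R))).obj K) ≅
      Q.obj ((DTen.extCx (algebraMap R' (MvPolynomial (Fin n) R'))).obj
        ((DTen.extCx (algebraMap R R')).obj K₀)) :=
    (DRing.LBaseChange
      (algebraMap (MvPolynomial (Fin n) R) (MvPolynomial (Fin n) R'))).mapIso eZ ≪≫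
      Groth.Agent.Lib.Helper32.LBC.lbcIso
        (algebraMap (MvPolynomial (Fin n) R) (MvPolynomial (Fin n) R')) _ ≪≫
      Q.mapIso (extCompIso K₀ (algebraMap R (MvPolynomial (Fin n) R))
        (algebraMap (MvPolynomial (Fin n) R) (MvPolynomial (Fin n) R'))) ≪≫
      Q.mapIso (eqToIso (by rw [hcomp])) ≪≫
      Q.mapIso (extCompIso K₀ (algebraMap R R') (algebraMap R' (MvPolynomial (Fin n) R'))).symm
  have u₃ := (u₁.of_iso_target eZ').shift (n : ℤ)
  letI := Groth.Agent.Lib.Helper6.LBCPC.lbcCommShift (algebraMap A (R' ⊗[R] A))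
  have u₄ := u₃.of_iso_source
    (((DRing.LBaseChange (algebraMap A (R' ⊗[R] A))).commShiftIso (n : ℤ)).app
      (Rψ.obj ((DRing.LBaseChange (algebraMap R (MvPolynomial (Fin n) R))).obj K)))
  exact ⟨_, u₄⟩

end Main

end Groth.Agent.Lib.Helper90.Shriek
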