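import Groth.Agent.Lib.Helper90.Shriek.Univ
import Groth.Agent.Lib.Helper32.KInjRes
import Groth.Agent.Lib.Helper32.LBC
import Groth.Agent.Lib.Helper6.RDual1

/-!
# Restriction of scalars on derived categories has a right adjoint (helper90)

Pointwise universal arrows (helper6 `RDual.bijective_Phi`, K-injective resolutions from helper32)
assemble into a right adjoint.  Also: the derived base change always exists.
-/

set_option autoImplicit false
set_option linter.unusedSectionVars false
set_option linter.style.haveILetI false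
universe v₁ v₂ u₁ u₂ u
open CategoryTheory CategoryTheory.Limits
attribute [local instance] HasDerivedCategory.standard

namespace Groth.Agent.Lib.Helper90.Shriek

section General

variable {C : Type u₁} {D : Type u₂} [Category.{v₁} C] [Category.{v₂} D]

/-- Pointwise universal arrows assemble into a right adjoint. -/
theorem exists_rightAdjoint_of_isUniv (ρ : D ⥤ C)
    (h : ∀ Z : C, ∃ (W : D) (c : ρ.obj W ⟶ Z), IsUniv ρ Z W c) :
    ∃ R : C ⥤ D, Nonempty (ρ ⊣ R) := by
  choose W c hU using h
  let e : ∀ (X : D) (Y : C), (ρ.obj X ⟶ Y) ≃ (X ⟶ W Y) := fun X Y =>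
    (Equiv.ofBijective (fun g : X ⟶ W Y => ρ.map g ≫ c Y) (hU Y X)).symm
  have he : ∀ (X' X : D) (Y : C) (f : X' ⟶ X) (g : ρ.obj X ⟶ Y),
      e X' Y (ρ.map f ≫ g) = f ≫ e X Y g := by
    intro X' X Y f g
    apply (e X' Y).symm.injective
    rw [Equiv.symm_apply_apply]
    change ρ.map f ≫ g = ρ.map (f ≫ e X Y g) ≫ c Y
    rw [Functor.map_comp, Category.assoc]
    congr 1
    exact ((e X Y).symm_apply_apply g).symm
  exact ⟨_, ⟨Adjunction.adjunctionOfEquivRight e he⟩⟩

end General

section Rings

variable {A B : Type u} [CommRing A] [CommRing B] (φ : A →+* B)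

/-- every object of `D(A)` has a pointwise right adjoint value for restriction along `φ`. -/
theorem exists_isUniv_restrictD (Z : Dual.D A) :
    ∃ (W : Dual.D B) (c : (DRing.restrictD φ).obj W ⟶ Z), IsUniv (DRing.restrictD φ) Z W c := by
  obtain ⟨I, f, hI, hf, -, -⟩ :=
    Groth.Agent.Lib.Helper32.KInjRes.exists_kInjective_resolution (DerivedCategory.Q.objPreimage Z)
  haveI := hI
  haveI := hf
  let eZ : DerivedCategory.Q.obj I ≅ Z :=
    (asIso (DerivedCategory.Q.map f)).symm ≪≫ DerivedCategory.Q.objObjPreimageIso Z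
  have h0 : IsUniv (DRing.restrictD φ) (DerivedCategory.Q.obj I)
      (DerivedCategory.Q.obj (Groth.Agent.Lib.Helper6.RDual.coextC φ I))
      (Groth.Agent.Lib.Helper6.RDual.eI φ I) :=
    fun Y => Groth.Agent.Lib.Helper6.RDual.bijective_Phi φ I Y
  exact ⟨_, _, h0.of_iso_target eZ⟩

/-- restriction of scalars on derived categories has a right adjoint. -/
theorem exists_rightAdjoint_restrictD :
    ∃ Rφ : Dual.D A ⥤ Dual.D B, Nonempty (DRing.restrictD φ ⊣ Rφ) :=
  exists_rightAdjoint_of_isUniv _ (exists_isUniv_restrictD φ)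

/-- the derived base change always exists. -/
theorem hasLBaseChange : DRing.HasLBaseChange φ := by
  haveI := Groth.Agent.Lib.Helper32.KProjDerived.hasPointwiseLeftDerivedFunctor
    (Groth.Agent.Lib.Helper32.KProjDerived.hasInitialArrows_Qh
      (Groth.Agent.Lib.Helper32.LBC.hasKProjRes A))
    (HomotopyCategory.quasiIso (ModuleCat.{u} A) (ComplexShape.up ℤ)) (DRing.baseChangeKh φ)
  exact Functor.hasLeftDerivedFunctor_of_hasPointwiseLeftDerivedFunctor _ _

end Rings

end Groth.Agent.Lib.Helper90.Shriek
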