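import Groth.Agent.S13550
import Groth.Agent.S13563
import Groth.Agent.Lib.Helper35.NoethRes
import Groth.Agent.Lib.Helper35.FTD
import Groth.Agent.Lib.Helper35.HDIFlat
import Groth.Agent.Lib.Helper82.RegTor
import Groth.Agent.Lib.Helper15.TorSymm
import Groth.Agent.Lib.Helper6.LBCPC

/-!
# Flat base change for `R Hom(A, -)`, packaged (helper90)

`R` Noetherian, `A` a finite `R`-algebra, `R → R'` flat, `A' = A ⊗_R R'`, `K` bounded below:
`R Hom(A, K) ⊗^L_A A' ≅ R Hom(A', K ⊗^L_R R')` for any right adjoints of the restrictions.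
-/

set_option autoImplicit false
set_option linter.unusedSectionVars false
set_option linter.style.haveILetI false
universe u
open CategoryTheory CategoryTheory.Limits
attribute [local instance] HasDerivedCategory.standard

namespace Groth.Agent.Lib.Helper90.Shriek

section Tor

variable (R A R' : Type u) [CommRing R] [CommRing A] [CommRing R'] [Algebra R A] [Algebra R R']

lemma tor_of_flat [Module.Flat R R'] (p : ℕ) (hp : 1 ≤ p) : Subsingleton (DRing.Tor R p A R') := by
  obtain ⟨q, rfl⟩ : ∃ q, p = q + 1 := ⟨p - 1, by omega⟩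
  haveI : Module.Flat R (ModuleCat.of R R') := inferInstanceAs (Module.Flat R R')
  have hz := Groth.Agent.Lib.Helper82.RegTor.isZero_T_of_flat (ModuleCat.of R R')
    (ModuleCat.of R A) q
  have e := ((Groth.Agent.Lib.Helper15.TorSymm.torSymm (R := R) (q + 1)).app
    (ModuleCat.of R A)).app (ModuleCat.of R R')
  exact ModuleCat.subsingleton_of_isZero (hz.of_iso e)

end Tor

section BC

variable (R A R' A' : Type u) [CommRing R] [CommRing A] [CommRing R'] [CommRing A']
  [Algebra R A] [Algebra R R'] [Algebra A A'] [Algebra R' A'] [Algebra R A']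
  [IsScalarTower R A A'] [IsScalarTower R R' A'] [Algebra.IsPushout R A R' A']
  [IsNoetherianRing R] [Module.Finite R A] [Module.Flat R R']
  [DRing.HasLBaseChange (algebraMap R R')] [DRing.HasLBaseChange (algebraMap A A')]
  {Rφ : Dual.D R ⥤ Dual.D A} (adj : DRing.restrictD (algebraMap R A) ⊣ Rφ)
  {Rφ' : Dual.D R' ⥤ Dual.D A'} (adj' : DRing.restrictD (algebraMap R' A') ⊣ Rφ')

include adj adj' in
theorem nonempty_flat_bc_iso (K : Dual.D R) (n : ℤ) [K.IsGE n] :
    Nonempty ((DRing.LBaseChange (algebraMap A A')).obj (Rφ.obj K) ≅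
      Rφ'.obj ((DRing.LBaseChange (algebraMap R R')).obj K)) := by
  have htor := tor_of_flat R A R'
  have h : (algebraMap A A').comp (algebraMap R A) =
      (algebraMap R' A').comp (algebraMap R R') := by
    rw [← IsScalarTower.algebraMap_eq R A A', ← IsScalarTower.algebraMap_eq R R' A']
  have hc := Groth.Agent.S13563.result R A R' A' htor
    (Groth.Agent.Lib.Helper6.LBCPC.lbcAdj (algebraMap R R'))
    (Groth.Agent.Lib.Helper6.LBCPC.lbcAdj (algebraMap A A')) h (Rφ.obj K)
  have hpc : DRing.IsPseudoCoherentModule' R A :=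
    Groth.Agent.Lib.Helper35.KL.isPseudoCoherent'_single_of_finite_of_isNoetherianRing
      (ModuleCat.of R A)
  have hfd : DRing.HasFiniteTorDim R R' := Groth.Agent.Lib.Helper35.FTD.of_flat R'
  haveI := Groth.Agent.S13550.result R A R' A' hpc hfd htor
    (Groth.Agent.Lib.Helper6.LBCPC.lbcAdj (algebraMap R R'))
    (Groth.Agent.Lib.Helper6.LBCPC.lbcAdj (algebraMap A A')) h Rφ adj Rφ' adj' K n hc
  exact ⟨asIso (TrivBC.bcMap (Groth.Agent.Lib.Helper6.LBCPC.lbcAdj (algebraMap R R'))
    (Groth.Agent.Lib.Helper6.LBCPC.lbcAdj (algebraMap A A')) h adj adj' K hc)⟩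

end BC

end Groth.Agent.Lib.Helper90.Shriek
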