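import Groth.Agent.Lib.Helper90.Shriek.Unique
import Groth.Agent.Lib.Helper90.Shriek.ExistsRAdj
import Groth.Agent.Lib.Helper90.Shriek.FlatBCLemma

/-!
# Base change of a presentation along a polynomial extension; composition with an adjoint
(helper90)
-/

set_option autoImplicit false
set_option linter.unusedSectionVars false
set_option linter.style.haveILetI false
universe u
open CategoryTheory CategoryTheory.Limits DerivedCategory
attribute [local instance] HasDerivedCategory.standard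
attribute [local instance] MvPolynomial.algebraMvPolynomial

namespace Groth.Agent.Lib.Helper90.Shriek

section GE

variable {A B : Type u} [CommRing A] [CommRing B] (φ : A →+* B) [DRing.HasLBaseChange φ]

lemma isGE_lbc_of_flat (hφ : φ.Flat) (K : Dual.D A) (c : ℤ)
    (hK : ∀ i : ℤ, i < c → Subsingleton (Dual.HD A K i)) :
    ((DRing.LBaseChange φ).obj K).IsGE c := by
  rw [DerivedCategory.isGE_iff]
  intro i hi
  obtain ⟨e⟩ := Groth.Agent.Lib.Helper35.HDIFlat.nonempty_homology_lbc_iso φ hφ K i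
  haveI := hK i hi
  have hz : IsZero ((homologyFunctor (ModuleCat.{u} A) i).obj K) :=
    ModuleCat.isZero_of_subsingleton _
  exact ((ModuleCat.extendScalars.{u, u, u} φ).map_isZero hz).of_iso e

end GE

section CompAdj

variable {R : Type u} [CommRing R] (K₀ : DRing.Cx R)
  {S A₁ A₂ : Type u} [CommRing S] [CommRing A₁] [CommRing A₂]

lemma Inv.compAdj (κ : R →+* S) (v : S →+* A₁) (a : ℤ) (W₁ : Dual.D A₁) (h : Inv K₀ κ v a W₁)
    (χ : A₁ →+* A₂) {Rχ : Dual.D A₁ ⥤ Dual.D A₂} (adjχ : DRing.restrictD χ ⊣ Rχ) (b : ℤ) :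
    Inv K₀ κ (χ.comp v) (a + b) ((Rχ.obj W₁)⟦b⟧) := by
  obtain ⟨c, hc⟩ := h
  have u₅ := isUniv_counit adjχ W₁
  have u₆ := (hc.comp u₅).of_natIso (resDComp v χ (χ.comp v) rfl)
  have u₈ := u₆.shift b
  exact ⟨_, u₈.of_iso_target ((shiftFunctorAdd' (Dual.D S) a b (a + b) rfl).app _).symm⟩

end CompAdj

section PolyBC

variable {R P B : Type u} [CommRing R] [CommRing P] [CommRing B] [IsNoetherianRing P]
  (K₀ : DRing.Cx R) [K₀.IsKProjective] (κ : R →+* P) [DRing.HasLBaseChange κ] (hκ : κ.Flat)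
  (ψ : P →+* B) (hψ : Function.Surjective ψ) {Rψ : Dual.D P ⥤ Dual.D B}
  (adj : DRing.restrictD ψ ⊣ Rψ)
  (m : ℕ) [DRing.HasLBaseChange (algebraMap B (MvPolynomial (Fin m) B))]
  (K : Dual.D R) (eK : Q.obj K₀ ≅ K) (c : ℤ)
  (hK : ∀ i : ℤ, i < c → Subsingleton (Dual.HD R K i)) (a : ℤ)

include hκ hψ adj eK hK in
theorem Inv.polyBC :
    Inv K₀ ((MvPolynomial.C : P →+* MvPolynomial (Fin m) P).comp κ)
      (MvPolynomial.map ψ : MvPolynomial (Fin m) P →+* MvPolynomial (Fin m) B) a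
      ((DRing.LBaseChange (algebraMap B (MvPolynomial (Fin m) B))).obj
        ((Rψ.obj ((DRing.LBaseChange κ).obj K))⟦a⟧)) := by
  letI : Algebra P B := ψ.toAlgebra
  haveI : Module.Finite P B := Module.Finite.of_surjective (Algebra.linearMap P B) hψ
  haveI := hasLBaseChange (algebraMap P (MvPolynomial (Fin m) P))
  obtain ⟨Rφ', ⟨adj'⟩⟩ := exists_rightAdjoint_restrictD
    (algebraMap (MvPolynomial (Fin m) P) (MvPolynomial (Fin m) B))
  haveI : ((DRing.LBaseChange κ).obj K).IsGE c := isGE_lbc_of_flat κ hκ K c hK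
  have adj₀ : DRing.restrictD (algebraMap P B) ⊣ Rψ := adj
  obtain ⟨bc⟩ := nonempty_flat_bc_iso P B (MvPolynomial (Fin m) P) (MvPolynomial (Fin m) B)
    adj₀ adj' ((DRing.LBaseChange κ).obj K) c
  have u₀ := isUniv_counit adj'
    ((DRing.LBaseChange (algebraMap P (MvPolynomial (Fin m) P))).obj ((DRing.LBaseChange κ).obj K))
  have u₁ := u₀.of_iso_source bc
  haveI : ((DTen.extCx κ).obj K₀).IsKProjective :=
    Groth.Agent.Lib.Helper26.AdjKProj.isKProjective_map
      (ModuleCat.extendRestrictScalarsAdj.{u, u, u} κ) K₀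
  let eZ : (DRing.LBaseChange κ).obj K ≅ Q.obj ((DTen.extCx κ).obj K₀) :=
    (DRing.LBaseChange κ).mapIso eK.symm ≪≫ Groth.Agent.Lib.Helper32.LBC.lbcIso κ K₀
  let eZ' : (DRing.LBaseChange (algebraMap P (MvPolynomial (Fin m) P))).obj
      ((DRing.LBaseChange κ).obj K) ≅
      Q.obj ((DTen.extCx ((MvPolynomial.C : P →+* MvPolynomial (Fin m) P).comp κ)).obj K₀) :=
    (DRing.LBaseChange (algebraMap P (MvPolynomial (Fin m) P))).mapIso eZ ≪≫
      Groth.Agent.Lib.Helper32.LBC.lbcIso (algebraMap P (MvPolynomial (Fin m) P)) _ ≪≫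
      Q.mapIso (extCompIso K₀ κ (MvPolynomial.C : P →+* MvPolynomial (Fin m) P))
  have u₃ := (u₁.of_iso_target eZ').shift a
  letI := Groth.Agent.Lib.Helper6.LBCPC.lbcCommShift (algebraMap B (MvPolynomial (Fin m) B))
  have u₄ := u₃.of_iso_source
    (((DRing.LBaseChange (algebraMap B (MvPolynomial (Fin m) B))).commShiftIso a).app
      (Rψ.obj ((DRing.LBaseChange κ).obj K)))
  exact ⟨_, u₄⟩

end PolyBC

end Groth.Agent.Lib.Helper90.Shriek
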