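import Groth.Agent.Lib.Helper90.Shriek.AddVars

/-!
# Uniqueness: two polynomial presentations give isomorphic objects (helper90)

* `Inv.start`: the invariant coming from a right adjoint of restriction along a presentation;
* `Inv.unique_mv`: two invariants over polynomial rings `A[x_1..x_{n₁}]`, `A[x_1..x_{n₂}]` with
  surjective evaluation maps to `C` give isomorphic objects.
-/

set_option autoImplicit false
set_option linter.unusedSectionVars false
set_option linter.style.haveILetI false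
universe u
open CategoryTheory CategoryTheory.Limits DerivedCategory
attribute [local instance] HasDerivedCategory.standard

namespace Groth.Agent.Lib.Helper90.Shriek

variable {R A : Type u} [CommRing R] [CommRing A] (K₀ : DRing.Cx R) [K₀.IsKProjective]

/-- the invariant coming from a right adjoint -/
lemma Inv.start {S : Type u} [CommRing S] (κ : R →+* S) [DRing.HasLBaseChange κ] (v : S →+* A)
    (Rv : Dual.D S ⥤ Dual.D A) (adj : DRing.restrictD v ⊣ Rv) (K : Dual.D R)
    (eK : Q.obj K₀ ≅ K) (a : ℤ) :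
    Inv K₀ κ v a ((Rv.obj ((DRing.LBaseChange κ).obj K))⟦a⟧) := by
  have h1 := isUniv_counit adj ((DRing.LBaseChange κ).obj K)
  let eZ : (DRing.LBaseChange κ).obj K ≅ Q.obj ((DTen.extCx κ).obj K₀) :=
    (DRing.LBaseChange κ).mapIso eK.symm ≪≫ Groth.Agent.Lib.Helper32.LBC.lbcIso κ K₀
  exact ⟨_, (h1.of_iso_target eZ).shift a⟩

omit [K₀.IsKProjective] in
/-- two presentations by polynomial rings give isomorphic objects -/
theorem Inv.unique_mv {n₁ n₂ : ℕ}
    (χ₁ : MvPolynomial (Fin n₁) R →+* A) (χ₂ : MvPolynomial (Fin n₂) R →+* A)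
    (h₁ : Function.Surjective χ₁) (h₂ : Function.Surjective χ₂)
    (hf : ∀ r : R, χ₁ (MvPolynomial.C r) = χ₂ (MvPolynomial.C r))
    (W₁ W₂ : Dual.D A) (a₁ a₂ : ℤ) (ha : a₁ + n₂ = a₂ + n₁)
    (H₁ : Inv K₀ (algebraMap R (MvPolynomial (Fin n₁) R)) χ₁ a₁ W₁)
    (H₂ : Inv K₀ (algebraMap R (MvPolynomial (Fin n₂) R)) χ₂ a₂ W₂) : Nonempty (W₁ ≅ W₂) := by
  have h1 := H₁.addVars K₀ _ _ _ _ n₂ (fun j => χ₂ (MvPolynomial.X j)) (fun j => h₁ _)
  have h2 := H₂.addVars K₀ _ _ _ _ n₁ (fun i => χ₁ (MvPolynomial.X i)) (fun i => h₂ _)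
  have h3 := h1.transport K₀ (MvPolynomial.commAlgEquiv R (Fin n₂) (Fin n₁)).toRingEquiv _ _ _ _
  have e1 : (MvPolynomial.commAlgEquiv R (Fin n₂) (Fin n₁)).toRingEquiv.toRingHom.comp
      ((MvPolynomial.C : MvPolynomial (Fin n₁) R →+*
        MvPolynomial (Fin n₂) (MvPolynomial (Fin n₁) R)).comp
        (algebraMap R (MvPolynomial (Fin n₁) R))) =
      (MvPolynomial.C : MvPolynomial (Fin n₂) R →+*
        MvPolynomial (Fin n₁) (MvPolynomial (Fin n₂) R)).comp
        (algebraMap R (MvPolynomial (Fin n₂) R)) := by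
    refine RingHom.ext (fun r => ?_)
    exact (MvPolynomial.commAlgEquiv R (Fin n₂) (Fin n₁)).commutes r
  have e2 : (MvPolynomial.eval₂Hom χ₁ (fun j => χ₂ (MvPolynomial.X j))).comp
      (MvPolynomial.commAlgEquiv R (Fin n₂) (Fin n₁)).toRingEquiv.symm.toRingHom =
      MvPolynomial.eval₂Hom χ₂ (fun i => χ₁ (MvPolynomial.X i)) := by
    refine MvPolynomial.ringHom_ext' ?_ (fun i => ?_)
    · refine MvPolynomial.ringHom_ext (fun r => ?_) (fun j => ?_)
      · change (MvPolynomial.eval₂Hom χ₁ (fun j => χ₂ (MvPolynomial.X j)))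
          ((MvPolynomial.commAlgEquiv R (Fin n₂) (Fin n₁)).symm
            (MvPolynomial.C (MvPolynomial.C r))) =
          (MvPolynomial.eval₂Hom χ₂ (fun i => χ₁ (MvPolynomial.X i)))
            (MvPolynomial.C (MvPolynomial.C r))
        have hc : (MvPolynomial.commAlgEquiv R (Fin n₂) (Fin n₁)).symm
            (MvPolynomial.C (MvPolynomial.C r)) = MvPolynomial.C (MvPolynomial.C r) :=
          (MvPolynomial.commAlgEquiv R (Fin n₂) (Fin n₁)).symm.commutes r
        rw [hc, MvPolynomial.eval₂Hom_C, MvPolynomial.eval₂Hom_C]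
        exact hf r
      · change (MvPolynomial.eval₂Hom χ₁ (fun j => χ₂ (MvPolynomial.X j)))
          ((MvPolynomial.commAlgEquiv R (Fin n₂) (Fin n₁)).symm
            (MvPolynomial.C (MvPolynomial.X j))) =
          (MvPolynomial.eval₂Hom χ₂ (fun i => χ₁ (MvPolynomial.X i)))
            (MvPolynomial.C (MvPolynomial.X j))
        have hc : (MvPolynomial.commAlgEquiv R (Fin n₂) (Fin n₁)).symm
            (MvPolynomial.C (MvPolynomial.X j)) = MvPolynomial.X j := by
          rw [AlgEquiv.symm_apply_eq, MvPolynomial.commAlgEquiv_X]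
        rw [hc, MvPolynomial.eval₂Hom_X', MvPolynomial.eval₂Hom_C]
    · change (MvPolynomial.eval₂Hom χ₁ (fun j => χ₂ (MvPolynomial.X j)))
          ((MvPolynomial.commAlgEquiv R (Fin n₂) (Fin n₁)).symm (MvPolynomial.X i)) =
          (MvPolynomial.eval₂Hom χ₂ (fun i => χ₁ (MvPolynomial.X i))) (MvPolynomial.X i)
      have hc : (MvPolynomial.commAlgEquiv R (Fin n₂) (Fin n₁)).symm (MvPolynomial.X i) =
          MvPolynomial.C (MvPolynomial.X i) := by
        rw [AlgEquiv.symm_apply_eq, MvPolynomial.commAlgEquiv_C_X]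
      rw [hc, MvPolynomial.eval₂Hom_C, MvPolynomial.eval₂Hom_X']
  rw [e1, e2, ha] at h3
  obtain ⟨c, hc⟩ := h3
  obtain ⟨c', hc'⟩ := h2
  obtain ⟨e, _⟩ := hc.exists_iso hc'
  exact ⟨e⟩

section TwoLayer

variable {R A : Type u} [CommRing R] [CommRing A] (K₀ : DRing.Cx R)

/-- `R[x_1..x_n][y_1..y_m] ≃ R[z_1..z_{m+n}]` -/
noncomputable def twoLayerEquiv (R : Type u) [CommRing R] (m n : ℕ) :
    MvPolynomial (Fin m) (MvPolynomial (Fin n) R) ≃ₐ[R] MvPolynomial (Fin (m + n)) R :=
  (MvPolynomial.sumAlgEquiv R (Fin m) (Fin n)).symm.trans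
    (MvPolynomial.renameEquiv R finSumFinEquiv)

lemma Inv.twoLayer {m n : ℕ} (v : MvPolynomial (Fin m) (MvPolynomial (Fin n) R) →+* A) (a : ℤ)
    (W : Dual.D A)
    (h : Inv K₀ ((MvPolynomial.C : MvPolynomial (Fin n) R →+*
      MvPolynomial (Fin m) (MvPolynomial (Fin n) R)).comp
        (algebraMap R (MvPolynomial (Fin n) R))) v a W) :
    Inv K₀ (algebraMap R (MvPolynomial (Fin (m + n)) R))
      (v.comp (twoLayerEquiv R m n).toRingEquiv.symm.toRingHom) a W := by
  have h1 := h.transport K₀ (twoLayerEquiv R m n).toRingEquiv _ _ _ _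
  have e1 : (twoLayerEquiv R m n).toRingEquiv.toRingHom.comp
      ((MvPolynomial.C : MvPolynomial (Fin n) R →+*
        MvPolynomial (Fin m) (MvPolynomial (Fin n) R)).comp
        (algebraMap R (MvPolynomial (Fin n) R))) =
      algebraMap R (MvPolynomial (Fin (m + n)) R) := by
    refine RingHom.ext (fun r => ?_)
    exact (twoLayerEquiv R m n).commutes r
  rw [e1] at h1
  exact h1

lemma twoLayerEquiv_symm_C (m n : ℕ) (r : R) :
    (twoLayerEquiv R m n).symm (MvPolynomial.C r) = MvPolynomial.C (MvPolynomial.C r) :=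
  (twoLayerEquiv R m n).symm.commutes r

end TwoLayer

end Groth.Agent.Lib.Helper90.Shriek
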