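import Groth.Agent.Lib.Helper90.Shriek.ModLevel

/-!
# `SecData` for polynomial rings (helper90)

* `polySec g : SecData P P[X]` with `θ = eval g`, `t = X - C g`;
* `SecData.transport D ε` along a ring isomorphism of the big ring;
* `mvSec S m g : SecData (MvPolynomial (Fin m) S) (MvPolynomial (Fin (m+1)) S)`.
-/

set_option autoImplicit false
set_option linter.unusedSectionVars false
universe u
open Polynomial

namespace Groth.Agent.Lib.Helper90.Shriek

section Poly

variable {P : Type u} [CommRing P] (g : P)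

lemma divByMonic_add' (p₁ p₂ : P[X]) {q : P[X]} (hq : q.Monic) :
    (p₁ + p₂) /ₘ q = p₁ /ₘ q + p₂ /ₘ q := by
  rcases subsingleton_or_nontrivial P with hR | hR
  · exact Subsingleton.elim _ _
  · exact (div_modByMonic_unique (p₁ /ₘ q + p₂ /ₘ q) (p₁ %ₘ q + p₂ %ₘ q) hq
      ⟨by
        rw [mul_add, add_left_comm, add_assoc, modByMonic_add_div, ← add_assoc,
          add_comm (q * _), modByMonic_add_div],
        (degree_add_le _ _).trans_lt
          (max_lt (degree_modByMonic_lt _ hq) (degree_modByMonic_lt _ hq))⟩).1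

lemma divByMonic_C_mul' (a : P) (p : P[X]) {q : P[X]} (hq : q.Monic) :
    (C a * p) /ₘ q = C a * (p /ₘ q) := by
  rcases subsingleton_or_nontrivial P with hR | hR
  · exact Subsingleton.elim _ _
  · refine (div_modByMonic_unique (C a * (p /ₘ q)) (C a * (p %ₘ q)) hq ⟨?_, ?_⟩).1
    · rw [mul_left_comm, ← mul_add, modByMonic_add_div]
    · refine lt_of_le_of_lt (degree_mul_le _ _) ?_
      refine lt_of_le_of_lt (add_le_add_left degree_C_le _) ?_
      rw [zero_add]
      exact degree_modByMonic_lt _ hq

/-- `P[X]` over `P`, with the retraction `X ↦ g`. -/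
noncomputable def polySec : SecData P P[X] where
  ι := C
  θ := evalRingHom g
  t := X - C g
  r :=
    { toFun := fun s => s /ₘ (X - C g)
      map_zero' := zero_divByMonic _
      map_add' := fun p₁ p₂ => divByMonic_add' p₁ p₂ (monic_X_sub_C g) }
  hθι := by
    ext p
    exact eval_C
  hr1 := fun p s => divByMonic_C_mul' p s (monic_X_sub_C g)
  hr2 := fun s => mul_divByMonic_cancel_left s (monic_X_sub_C g)
  hr3 := fun s => by
    have h := modByMonic_add_div s (X - C g)
    rw [modByMonic_X_sub_C_eq_C_eval, add_comm] at h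
    exact h

end Poly

section Transport

variable {P T' T : Type u} [CommRing P] [CommRing T'] [CommRing T]

/-- transport of the data along a ring isomorphism -/
noncomputable def SecData.transport (D : SecData P T') (ε : T' ≃+* T) : SecData P T where
  ι := ε.toRingHom.comp D.ι
  θ := D.θ.comp ε.symm.toRingHom
  t := ε D.t
  r := ε.toAddMonoidHom.comp (D.r.comp ε.symm.toAddMonoidHom)
  hθι := by
    ext p
    change D.θ (ε.symm (ε (D.ι p))) = p
    rw [ε.symm_apply_apply, D.θ_ι]
  hr1 := fun p s => by
    change ε (D.r (ε.symm (ε (D.ι p) * s))) = ε (D.ι p) * ε (D.r (ε.symm s))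
    rw [map_mul, ε.symm_apply_apply, D.hr1, map_mul]
  hr2 := fun s => by
    change ε (D.r (ε.symm (ε D.t * s))) = s
    rw [map_mul, ε.symm_apply_apply, D.hr2, ε.apply_symm_apply]
  hr3 := fun s => by
    change ε D.t * ε (D.r (ε.symm s)) + ε (D.ι (D.θ (ε.symm s))) = s
    rw [← map_mul, ← map_add, D.hr3, ε.apply_symm_apply]

end Transport

section Mv

variable (S : Type u) [CommRing S] (m : ℕ) (g : MvPolynomial (Fin m) S)

/-- `S[x_0, …, x_m]` over `S[x_1, …, x_m]` with the retraction `x_0 ↦ g`. -/
noncomputable def mvSec : SecData (MvPolynomial (Fin m) S) (MvPolynomial (Fin (m + 1)) S) :=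
  (polySec g).transport (MvPolynomial.finSuccEquiv S m).symm.toRingEquiv

lemma mvSec_ι_C (s : S) : (mvSec S m g).ι (MvPolynomial.C s) = MvPolynomial.C s := by
  have h := MvPolynomial.finSuccEquiv_comp_C_eq_C (R := S) m
  exact congrArg (fun f => f s) h

lemma mvSec_θ_C (s : S) : (mvSec S m g).θ (MvPolynomial.C s) = MvPolynomial.C s := by
  change eval g ((MvPolynomial.finSuccEquiv S m) (MvPolynomial.C s)) = _
  have h : (MvPolynomial.finSuccEquiv S m) (MvPolynomial.C s) = C (MvPolynomial.C s) := by
    have h' := (MvPolynomial.finSuccEquiv S m).commutes s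
    rw [MvPolynomial.algebraMap_eq] at h'
    exact h'
  rw [h, eval_C]

lemma mvSec_θ_X_zero : (mvSec S m g).θ (MvPolynomial.X 0) = g := by
  change eval g ((MvPolynomial.finSuccEquiv S m) (MvPolynomial.X 0)) = _
  rw [MvPolynomial.finSuccEquiv_X_zero, eval_X]

lemma mvSec_θ_X_succ (j : Fin m) :
    (mvSec S m g).θ (MvPolynomial.X j.succ) = MvPolynomial.X j := by
  change eval g ((MvPolynomial.finSuccEquiv S m) (MvPolynomial.X j.succ)) = _
  rw [MvPolynomial.finSuccEquiv_X_succ, eval_C]

end Mv

end Groth.Agent.Lib.Helper90.Shriek
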