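import Groth.Agent.Lib.Helper90.Shriek.Chain
import Groth.Agent.Lib.Helper90.Shriek.PolyData

/-!
# Adding polynomial variables preserves the invariant (helper90)
-/

set_option autoImplicit false
set_option linter.unusedSectionVars false
set_option linter.style.haveILetI false
universe u
open CategoryTheory CategoryTheory.Limits DerivedCategory
attribute [local instance] HasDerivedCategory.standard

namespace Groth.Agent.Lib.Helper90.Shriek

variable {R A : Type u} [CommRing R] [CommRing A] (K₀ : DRing.Cx R)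
  {S : Type u} [CommRing S]

lemma Inv.addVars (κ : R →+* S) (v : S →+* A) (a : ℤ) (W : Dual.D A) (h : Inv K₀ κ v a W) :
    ∀ (m : ℕ) (w : Fin m → A), (∀ j, w j ∈ Set.range v) →
      Inv K₀ ((MvPolynomial.C : S →+* MvPolynomial (Fin m) S).comp κ)
        (MvPolynomial.eval₂Hom v w) (a + m) W := by
  intro m
  induction m with
  | zero =>
    intro w _
    have h1 := h.transport K₀ (MvPolynomial.isEmptyRingEquiv S (Fin 0)).symm κ v a W
    have e1 : (MvPolynomial.isEmptyRingEquiv S (Fin 0)).symm.toRingHom = MvPolynomial.C :=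
      MvPolynomial.isEmptyRingEquiv_symm_toRingHom S
    have e2 : v.comp (MvPolynomial.isEmptyRingEquiv S (Fin 0)).symm.symm.toRingHom =
        MvPolynomial.eval₂Hom v w := by
      refine MvPolynomial.ringHom_ext (fun s => ?_) (fun i => i.elim0)
      change v ((MvPolynomial.isEmptyRingEquiv S (Fin 0)) (MvPolynomial.C s)) = _
      rw [MvPolynomial.eval₂Hom_C]
      congr 1
      have := (MvPolynomial.isEmptyRingEquiv S (Fin 0)).apply_symm_apply s
      rw [MvPolynomial.isEmptyRingEquiv_symm_apply] at this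
      exact this
    rw [e1, e2] at h1
    have e3 : a + ((0 : ℕ) : ℤ) = a := by rw [Nat.cast_zero, add_zero]
    rw [e3]
    exact h1
  | succ m ih =>
    intro w hw
    have h1 := ih (Fin.tail w) (fun j => hw j.succ)
    obtain ⟨s₀, hs₀⟩ := hw 0
    have h2 := h1.step K₀ (mvSec S m (MvPolynomial.C s₀)) _ _ _ W
    have e1 : (mvSec S m (MvPolynomial.C s₀)).ι.comp
        ((MvPolynomial.C : S →+* MvPolynomial (Fin m) S).comp κ) =
        (MvPolynomial.C : S →+* MvPolynomial (Fin (m + 1)) S).comp κ := by
      refine RingHom.ext (fun r => ?_)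
      exact mvSec_ι_C S m _ (κ r)
    have e2 : (MvPolynomial.eval₂Hom v (Fin.tail w)).comp (mvSec S m (MvPolynomial.C s₀)).θ =
        MvPolynomial.eval₂Hom v w := by
      refine MvPolynomial.ringHom_ext (fun s => ?_) (fun i => ?_)
      · change (MvPolynomial.eval₂Hom v (Fin.tail w)) ((mvSec S m _).θ (MvPolynomial.C s)) = _
        rw [mvSec_θ_C, MvPolynomial.eval₂Hom_C, MvPolynomial.eval₂Hom_C]
      · change (MvPolynomial.eval₂Hom v (Fin.tail w)) ((mvSec S m _).θ (MvPolynomial.X i)) = _
        refine Fin.cases ?_ (fun j => ?_) i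
        · rw [mvSec_θ_X_zero, MvPolynomial.eval₂Hom_C, MvPolynomial.eval₂Hom_X', hs₀]
        · rw [mvSec_θ_X_succ, MvPolynomial.eval₂Hom_X', MvPolynomial.eval₂Hom_X']
          rfl
    rw [e1, e2] at h2
    have e3 : a + ((m + 1 : ℕ) : ℤ) = a + (m : ℤ) + 1 := by
      rw [Nat.cast_succ, add_assoc]
    rw [e3]
    exact h2

end Groth.Agent.Lib.Helper90.Shriek
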