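import Mathlib

/-!
# A ring `T` which looks like `P[y]` with a retraction `y ↦ g`: module level (helper90)

`SecData P T`: ring maps `ι : P → T`, `θ : T → P` with `θ ∘ ι = id`, an element `t : T` and a
`P`-linear "division by `t`" map `r : T → T` with `r (t s) = s` and `t (r s) + ι (θ s) = s`.
For every `P`-module `N` this gives a short exact sequence
`0 → T ⊗_P N --t--> T ⊗_P N --π--> N_θ → 0` of `T`-modules, split over `P`.
-/

set_option autoImplicit false
set_option linter.unusedSectionVars false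
set_option linter.style.haveILetI false
universe u
open CategoryTheory CategoryTheory.Limits
open scoped ChangeOfRings

namespace Groth.Agent.Lib.Helper90.Shriek

section Tm

variable {P T : Type u} [CommRing P] [CommRing T] (ι : P →+* T) (N : ModuleCat.{u} P)

set_option backward.isDefEq.respectTransparency false in
/-- pure tensors in `T ⊗_P N` -/
noncomputable def tm (s : T) (n : N) : (ModuleCat.extendScalars.{u, u, u} ι).obj N := s ⊗ₜ[P,ι] n

set_option backward.isDefEq.respectTransparency false in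
lemma smul_tm (s s' : T) (n : N) : s • tm ι N s' n = tm ι N (s * s') n := rfl

set_option backward.isDefEq.respectTransparency false in
lemma tm_add_left (s s' : T) (n : N) : tm ι N (s + s') n = tm ι N s n + tm ι N s' n := by
  letI := Module.compHom T ι
  exact TensorProduct.add_tmul s s' n

set_option backward.isDefEq.respectTransparency false in
lemma tm_add_right (s : T) (n n' : N) : tm ι N s (n + n') = tm ι N s n + tm ι N s n' := by
  letI := Module.compHom T ι
  exact TensorProduct.tmul_add s n n'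

set_option backward.isDefEq.respectTransparency false in
lemma tm_smul (p : P) (s : T) (n : N) : tm ι N s (p • n) = tm ι N (ι p * s) n := by
  letI := Module.compHom T ι
  exact (TensorProduct.smul_tmul p s n).symm

set_option backward.isDefEq.respectTransparency false in
lemma E_induction {C : (ModuleCat.extendScalars.{u, u, u} ι).obj N → Prop} (h0 : C 0)
    (h1 : ∀ s n, C (tm ι N s n))
    (h2 : ∀ x y, C x → C y → C (x + y)) (x : (ModuleCat.extendScalars.{u, u, u} ι).obj N) :
    C x := by
  letI := Module.compHom T ι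
  induction x using TensorProduct.induction_on with
  | zero => exact h0
  | tmul s n => exact h1 s n
  | add x y hx hy => exact h2 x y hx hy

set_option backward.isDefEq.respectTransparency false in
lemma E_map_tm {N N' : ModuleCat.{u} P} (f : N ⟶ N') (s : T) (n : N) :
    ((ModuleCat.extendScalars.{u, u, u} ι).map f) (tm ι N s n) = tm ι N' s (f n) := rfl

set_option backward.isDefEq.respectTransparency false in
lemma unit_apply (n : N) :
    ((ModuleCat.extendRestrictScalarsAdj.{u,u,u} ι).unit.app N) n = tm ι N 1 n := rfl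

/-- the element of `Rι (E N)` underlying an element of `E N` -/
def toR (x : (ModuleCat.extendScalars.{u, u, u} ι).obj N) :
    (ModuleCat.restrictScalars.{u} ι).obj ((ModuleCat.extendScalars.{u, u, u} ι).obj N) := x

lemma RE_hom_ext {X : ModuleCat.{u} P}
    (f g : (ModuleCat.restrictScalars.{u} ι).obj ((ModuleCat.extendScalars.{u, u, u} ι).obj N) ⟶ X)
    (h : ∀ s n, f (toR ι N (tm ι N s n)) = g (toR ι N (tm ι N s n))) : f = g := by
  apply ModuleCat.hom_ext
  apply LinearMap.ext
  intro x
  refine E_induction ι N (C := fun x => f.hom (toR ι N x) = g.hom (toR ι N x)) ?_ h ?_ x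
  · exact (map_zero f.hom).trans (map_zero g.hom).symm
  · intro x y hx hy
    exact (map_add f.hom (toR ι N x) (toR ι N y)).trans
      ((congrArg₂ (· + ·) hx hy).trans (map_add g.hom (toR ι N x) (toR ι N y)).symm)

end Tm

/-- The ring-level data. -/
structure SecData (P T : Type u) [CommRing P] [CommRing T] where
  ι : P →+* T
  θ : T →+* P
  t : T
  r : T →+ T
  hθι : θ.comp ι = RingHom.id P
  hr1 : ∀ p s, r (ι p * s) = ι p * r s
  hr2 : ∀ s, r (t * s) = s
  hr3 : ∀ s, t * r s + ι (θ s) = s

namespace SecData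

variable {P T : Type u} [CommRing P] [CommRing T] (D : SecData P T)

lemma θ_ι (p : P) : D.θ (D.ι p) = p := by
  have := congrArg (fun f => f p) D.hθι
  exact this

lemma θ_t : D.θ D.t = 0 := by
  have h1 := D.hr3 D.t
  have h2 := D.hr2 1
  rw [mul_one] at h2
  rw [h2, mul_one] at h1
  have h3 : D.ι (D.θ D.t) = 0 := by
    have := congrArg (fun x => x - D.t) h1
    simpa using this
  have h4 := congrArg D.θ h3
  rw [θ_ι, map_zero] at h4
  exact h4

/-- extension of scalars along `ι` -/
noncomputable abbrev E : ModuleCat.{u} P ⥤ ModuleCat.{u} T := ModuleCat.extendScalars.{u, u, u} D.ι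
/-- restriction of scalars along `ι` -/
noncomputable abbrev Rι : ModuleCat.{u} T ⥤ ModuleCat.{u} P := ModuleCat.restrictScalars.{u} D.ι
/-- restriction of scalars along `θ` -/
noncomputable abbrev Rθ : ModuleCat.{u} P ⥤ ModuleCat.{u} T := ModuleCat.restrictScalars.{u} D.θ

/-- the adjunction -/
noncomputable abbrev adj : D.E ⊣ D.Rι := ModuleCat.extendRestrictScalarsAdj.{u, u, u} D.ι

/-- `N ≅ (N_θ)_ι`. -/
noncomputable def kap : 𝟭 (ModuleCat.{u} P) ≅ D.Rθ ⋙ D.Rι :=
  (ModuleCat.restrictScalarsId' (RingHom.id P) rfl).symm ≪≫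
    ModuleCat.restrictScalarsComp' D.ι D.θ (RingHom.id P) D.hθι.symm

/-- multiplication by `t` -/
noncomputable def tauNat : D.E ⟶ D.E where
  app N := D.t • 𝟙 (D.E.obj N)
  naturality N N' f := by
    rw [Linear.comp_smul, Linear.smul_comp, Category.comp_id, Category.id_comp]

/-- `π : T ⊗_P N ⟶ N_θ`, `s ⊗ n ↦ θ(s) n`. -/
noncomputable def piNat : D.E ⟶ D.Rθ where
  app N := (D.adj.homEquiv N (D.Rθ.obj N)).symm (D.kap.hom.app N)
  naturality N N' f := by
    rw [← Adjunction.homEquiv_naturality_left_symm, ← Adjunction.homEquiv_naturality_right_symm]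
    congr 1

lemma unit_pi (N : ModuleCat.{u} P) :
    D.adj.unit.app N ≫ D.Rι.map (D.piNat.app N) = D.kap.hom.app N := by
  have h := (D.adj.homEquiv N (D.Rθ.obj N)).apply_symm_apply (D.kap.hom.app N)
  rw [Adjunction.homEquiv_unit] at h
  exact h

section Elements

variable (N : ModuleCat.{u} P)

/-- an element of `N` viewed in `N_θ` -/
def toθ (n : N) : D.Rθ.obj N := n

lemma tau_apply (x : D.E.obj N) : (D.tauNat.app N) x = D.t • x := rfl

lemma pi_tm (s : T) (n : N) :
    (D.piNat.app N) (tm D.ι N s n) = D.toθ N (D.θ s • n) := by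
  have h1 : tm D.ι N s n = s • tm D.ι N 1 n := by
    rw [smul_tm, mul_one]
  rw [h1, map_smul]
  have h2 : (D.piNat.app N) (tm D.ι N 1 n) = D.toθ N n := by
    have := congrArg (fun f => f n) (D.unit_pi N)
    exact this
  rw [h2]
  rfl


set_option backward.isDefEq.respectTransparency false in
/-- `r` as a `P`-linear endomorphism of `T`. -/
noncomputable def rLin : (D.Rι.obj (ModuleCat.of T T)) →ₗ[P] (D.Rι.obj (ModuleCat.of T T)) where
  toFun := fun s => D.r s
  map_add' := D.r.map_add
  map_smul' := fun p s => D.hr1 p s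

set_option backward.isDefEq.respectTransparency false in
/-- `r ⊗ id` as an additive map. -/
noncomputable def rhoAdd : D.E.obj N →+ D.E.obj N :=
  (TensorProduct.map D.rLin LinearMap.id).toAddMonoidHom

set_option backward.isDefEq.respectTransparency false in
lemma rhoAdd_tm (s : T) (n : N) : D.rhoAdd N (tm D.ι N s n) = tm D.ι N (D.r s) n := rfl

lemma rhoAdd_smul (p : P) (x : D.E.obj N) : D.rhoAdd N (D.ι p • x) = D.ι p • D.rhoAdd N x := by
  refine E_induction D.ι N (C := fun x => D.rhoAdd N (D.ι p • x) = D.ι p • D.rhoAdd N x) ?_ ?_ ?_ x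
  · rw [smul_zero, map_zero, smul_zero]
  · intro s n
    rw [smul_tm, rhoAdd_tm, rhoAdd_tm, smul_tm, D.hr1]
  · intro x y hx hy
    rw [smul_add, map_add, hx, hy, map_add, smul_add]

/-- `ρ = r ⊗ id`, a `P`-linear retraction of multiplication by `t`. -/
noncomputable def rhoApp : D.Rι.obj (D.E.obj N) ⟶ D.Rι.obj (D.E.obj N) :=
  ModuleCat.ofHom (X := D.Rι.obj (D.E.obj N)) (Y := D.Rι.obj (D.E.obj N))
    { toFun := fun x => D.rhoAdd N x
      map_add' := fun x y => map_add (D.rhoAdd N) x y
      map_smul' := fun p x => D.rhoAdd_smul N p x }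

lemma rhoApp_tm (s : T) (n : N) :
    (D.rhoApp N) (toR D.ι N (tm D.ι N s n)) = toR D.ι N (tm D.ι N (D.r s) n) := rfl


lemma Rι_map_apply {M M' : ModuleCat.{u} T} (f : M ⟶ M') (x : M) :
    (D.Rι.map f) (show D.Rι.obj M from x) = (show D.Rι.obj M' from f x) := rfl

/-- (a): `ρ` is a retraction of multiplication by `t`. -/
lemma tau_rho : D.Rι.map (D.tauNat.app N) ≫ D.rhoApp N = 𝟙 _ := by
  apply RE_hom_ext
  intro s n
  change (D.rhoApp N) (toR D.ι N ((D.tauNat.app N) (tm D.ι N s n))) = toR D.ι N (tm D.ι N s n)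
  rw [tau_apply, smul_tm, rhoApp_tm, D.hr2]

lemma kap_inv_apply (n : N) :
    (D.kap.inv.app N) (show D.Rι.obj (D.Rθ.obj N) from n) = n := rfl

/-- the section `N_θ → T ⊗_P N`, `n ↦ 1 ⊗ n` (only `P`-linear). -/
noncomputable def sigApp : D.Rι.obj (D.Rθ.obj N) ⟶ D.Rι.obj (D.E.obj N) :=
  D.kap.inv.app N ≫ D.adj.unit.app N

lemma sig_pi : D.sigApp N ≫ D.Rι.map (D.piNat.app N) = 𝟙 _ := by
  dsimp only [sigApp]
  rw [Category.assoc, D.unit_pi]
  exact D.kap.inv_hom_id_app N

/-- (b): the splitting identity. -/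
lemma rho_tau_add : D.rhoApp N ≫ D.Rι.map (D.tauNat.app N) +
    D.Rι.map (D.piNat.app N) ≫ D.sigApp N = 𝟙 _ := by
  apply RE_hom_ext
  intro s n
  change toR D.ι N ((D.tauNat.app N) (tm D.ι N (D.r s) n)) +
    toR D.ι N ((D.adj.unit.app N) ((D.kap.inv.app N)
      (show D.Rι.obj (D.Rθ.obj N) from ((D.piNat.app N) (tm D.ι N s n))))) =
      toR D.ι N (tm D.ι N s n)
  rw [tau_apply, smul_tm, pi_tm]
  change toR D.ι N (tm D.ι N (D.t * D.r s) n) +
    toR D.ι N ((D.adj.unit.app N) (D.θ s • n)) = toR D.ι N (tm D.ι N s n)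
  rw [unit_apply, tm_smul, mul_one]
  change toR D.ι N (tm D.ι N (D.t * D.r s) n + tm D.ι N (D.ι (D.θ s)) n) = _
  rw [← tm_add_left, D.hr3]

/-- naturality of `ρ`. -/
lemma rho_naturality {N N' : ModuleCat.{u} P} (f : N ⟶ N') :
    D.rhoApp N ≫ D.Rι.map (D.E.map f) = D.Rι.map (D.E.map f) ≫ D.rhoApp N' := by
  apply RE_hom_ext
  intro s n
  change toR D.ι N' ((D.E.map f) (tm D.ι N (D.r s) n)) =
    (D.rhoApp N') (toR D.ι N' ((D.E.map f) (tm D.ι N s n)))
  rw [E_map_tm, E_map_tm, rhoApp_tm]

/-- (e): `t` acts as zero on `N_θ`. -/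
lemma t_smul_Rθ : D.t • 𝟙 (D.Rθ.obj N) = 0 := by
  apply ModuleCat.hom_ext
  apply LinearMap.ext
  intro x
  change D.θ D.t • (show N from x) = 0
  rw [D.θ_t, zero_smul]

/-- (d): `τ ≫ π = 0`. -/
lemma tau_pi : D.tauNat.app N ≫ D.piNat.app N = 0 := by
  change (D.t • 𝟙 (D.E.obj N)) ≫ D.piNat.app N = 0
  rw [Linear.smul_comp, Category.id_comp, ← Category.comp_id (D.piNat.app N), ← Linear.comp_smul,
    t_smul_Rθ, comp_zero]


/-- the short complex `T ⊗_P N --t--> T ⊗_P N --π--> N_θ` -/
noncomputable def sc : ShortComplex (ModuleCat.{u} T) :=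
  ShortComplex.mk (D.tauNat.app N) (D.piNat.app N) (D.tau_pi N)

/-- it is split after restriction to `P` -/
noncomputable def scSplitting : ((D.sc N).map D.Rι).Splitting where
  r := D.rhoApp N
  s := D.sigApp N
  f_r := D.tau_rho N
  s_g := D.sig_pi N
  id := D.rho_tau_add N

lemma sc_shortExact : (D.sc N).ShortExact where
  exact := ((D.sc N).exact_map_iff_of_faithful D.Rι).1 (D.scSplitting N).exact
  mono_f := by
    haveI : Mono (D.Rι.map (D.sc N).f) := (D.scSplitting N).shortExact.mono_f
    exact D.Rι.mono_of_mono_map this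
  epi_g := by
    haveI : Epi (D.Rι.map (D.sc N).g) := (D.scSplitting N).shortExact.epi_g
    exact D.Rι.epi_of_epi_map this

end Elements

end SecData

end Groth.Agent.Lib.Helper90.Shriek
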