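import Groth.Prelude.Def_DTen4
import Groth.Agent.Lib.Helper90.Shriek.ModLevel

/-!
# `SecData`: complex level (helper90)

For a complex `N₀` of `P`-modules: the short exact sequence of complexes of `T`-modules
`0 → T ⊗_P N₀ --t--> T ⊗_P N₀ --π--> (N₀)_θ → 0`, with its `P`-linear splitting.
-/

set_option autoImplicit false
set_option linter.unusedSectionVars false
universe u
open CategoryTheory CategoryTheory.Limits
attribute [local instance] HasDerivedCategory.standard

namespace Groth.Agent.Lib.Helper90.Shriek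

namespace SecData

variable {P T : Type u} [CommRing P] [CommRing T] (D : SecData P T)

/-- extension along `ι` on complexes -/
noncomputable abbrev Ec : DRing.Cx P ⥤ DRing.Cx T := DTen.extCx D.ι
/-- restriction along `ι` on complexes -/
noncomputable abbrev Rιc : DRing.Cx T ⥤ DRing.Cx P := DTen.resCx D.ι
/-- restriction along `θ` on complexes -/
noncomputable abbrev Rθc : DRing.Cx P ⥤ DRing.Cx T := DTen.resCx D.θ

/-- multiplication by `t` on complexes -/
noncomputable def tauC : D.Ec ⟶ D.Ec := NatTrans.mapHomologicalComplex D.tauNat (ComplexShape.up ℤ)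

/-- `π` on complexes -/
noncomputable def piC : D.Ec ⟶ D.Rθc := NatTrans.mapHomologicalComplex D.piNat (ComplexShape.up ℤ)

variable (N₀ : DRing.Cx P)

lemma tauC_f (i : ℤ) : (D.tauC.app N₀).f i = D.tauNat.app (N₀.X i) := rfl
lemma piC_f (i : ℤ) : (D.piC.app N₀).f i = D.piNat.app (N₀.X i) := rfl

lemma tauC_piC : D.tauC.app N₀ ≫ D.piC.app N₀ = 0 := by
  refine HomologicalComplex.hom_ext _ _ (fun i => ?_)
  exact D.tau_pi (N₀.X i)

/-- the short complex of complexes -/
noncomputable def scC : ShortComplex (DRing.Cx T) :=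
  ShortComplex.mk (D.tauC.app N₀) (D.piC.app N₀) (D.tauC_piC N₀)

lemma scC_shortExact : (D.scC N₀).ShortExact :=
  HomologicalComplex.shortExact_of_degreewise_shortExact _ (fun i => D.sc_shortExact (N₀.X i))

lemma tauC_eq : D.tauC.app N₀ = D.t • 𝟙 (D.Ec.obj N₀) := by
  refine HomologicalComplex.hom_ext _ _ (fun i => ?_)
  rfl

lemma t_smul_Rθc : D.t • 𝟙 (D.Rθc.obj N₀) = 0 := by
  refine HomologicalComplex.hom_ext _ _ (fun i => ?_)
  exact D.t_smul_Rθ (N₀.X i)

/-- `ρ` on complexes -/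
noncomputable def rhoC : D.Rιc.obj (D.Ec.obj N₀) ⟶ D.Rιc.obj (D.Ec.obj N₀) where
  f i := D.rhoApp (N₀.X i)
  comm' i j _ := D.rho_naturality (N₀.d i j)

lemma tauC_rhoC : D.Rιc.map (D.tauC.app N₀) ≫ D.rhoC N₀ = 𝟙 _ := by
  refine HomologicalComplex.hom_ext _ _ (fun i => ?_)
  exact D.tau_rho (N₀.X i)

/-- `N₀ ≅ ((N₀)_θ)_ι` -/
noncomputable def kapC : N₀ ≅ D.Rιc.obj (D.Rθc.obj N₀) :=
  HomologicalComplex.Hom.isoOfComponents (fun i => D.kap.app (N₀.X i))
    (fun i j _ => (D.kap.hom.naturality (N₀.d i j)).symm)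

lemma kapC_hom_f (i : ℤ) : (D.kapC N₀).hom.f i = D.kap.hom.app (N₀.X i) := rfl

lemma kapC_naturality {Y₀ N₀ : DRing.Cx P} (f : Y₀ ⟶ N₀) :
    f ≫ (D.kapC N₀).hom = (D.kapC Y₀).hom ≫ D.Rιc.map (D.Rθc.map f) := by
  refine HomologicalComplex.hom_ext _ _ (fun i => ?_)
  exact D.kap.hom.naturality (f.f i)

lemma unitC_piC :
    (DTen.unitCx D.ι).app N₀ ≫ D.Rιc.map (D.piC.app N₀) = (D.kapC N₀).hom := by
  refine HomologicalComplex.hom_ext _ _ (fun i => ?_)
  exact D.unit_pi (N₀.X i)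

end SecData

end Groth.Agent.Lib.Helper90.Shriek
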