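import Mathlib

/-!
# Universal arrows (pointwise adjoints) and their formal properties (helper90)

`IsUniv ρ Z W c`: the arrow `c : ρ W ⟶ Z` exhibits `W` as the value at `Z` of a (pointwise) right
adjoint of `ρ`.  `IsCouniv ρ K Z u`: the arrow `u : K ⟶ ρ Z` exhibits `Z` as the value at `K` of a
(pointwise) left adjoint of `ρ`.
-/

set_option autoImplicit false
universe v₁ v₂ v₃ v₄ u₁ u₂ u₃ u₄
open CategoryTheory

namespace Groth.Agent.Lib.Helper90.Shriek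

variable {C : Type u₁} {D : Type u₂} {E : Type u₃} {C' : Type u₄} [Category.{v₁} C]
  [Category.{v₂} D] [Category.{v₃} E] [Category.{v₄} C']

section Univ

/-- `c : ρ W ⟶ Z` is a universal arrow from the functor `ρ` to the object `Z`. -/
def IsUniv (ρ : D ⥤ C) (Z : C) (W : D) (c : ρ.obj W ⟶ Z) : Prop :=
  ∀ Y : D, Function.Bijective (fun g : Y ⟶ W => ρ.map g ≫ c)

lemma isUniv_counit {ρ : D ⥤ C} {R : C ⥤ D} (adj : ρ ⊣ R) (Z : C) :
    IsUniv ρ Z (R.obj Z) (adj.counit.app Z) := by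
  intro Y
  have h := (adj.homEquiv Y Z).symm.bijective
  convert h using 1
  funext g
  exact (adj.homEquiv_counit Y Z g).symm

variable {ρ : D ⥤ C} {Z : C} {W : D} {c : ρ.obj W ⟶ Z}

lemma IsUniv.exists_iso (h : IsUniv ρ Z W c) {W' : D} {c' : ρ.obj W' ⟶ Z} (h' : IsUniv ρ Z W' c') :
    ∃ e : W ≅ W', ρ.map e.hom ≫ c' = c := by
  obtain ⟨a, ha⟩ := (h' W).2 c
  obtain ⟨b, hb⟩ := (h W').2 c'
  have ha' : ρ.map a ≫ c' = c := ha
  have hb' : ρ.map b ≫ c = c' := hb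
  have h1 : a ≫ b = 𝟙 W := by
    apply (h W).1
    change ρ.map (a ≫ b) ≫ c = ρ.map (𝟙 W) ≫ c
    rw [Functor.map_comp, Category.assoc, hb', ha', CategoryTheory.Functor.map_id, Category.id_comp]
  have h2 : b ≫ a = 𝟙 W' := by
    apply (h' W').1
    change ρ.map (b ≫ a) ≫ c' = ρ.map (𝟙 W') ≫ c'
    rw [Functor.map_comp, Category.assoc, ha', hb', CategoryTheory.Functor.map_id, Category.id_comp]
  exact ⟨⟨a, b, h1, h2⟩, ha'⟩

lemma IsUniv.comp {ρ₂ : E ⥤ D} {V : E} {d : ρ₂.obj V ⟶ W} (h₁ : IsUniv ρ Z W c)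
    (h₂ : IsUniv ρ₂ W V d) : IsUniv (ρ₂ ⋙ ρ) Z V (ρ.map d ≫ c) := by
  intro Y
  have h := (h₁ (ρ₂.obj Y)).comp (h₂ Y)
  change Function.Bijective (fun g : Y ⟶ V => ρ.map (ρ₂.map g) ≫ ρ.map d ≫ c)
  have e : (fun g : Y ⟶ V => ρ.map (ρ₂.map g) ≫ ρ.map d ≫ c) =
      (fun g => ρ.map g ≫ c) ∘ fun g => ρ₂.map g ≫ d := by
    funext g
    dsimp only [Function.comp]
    rw [Functor.map_comp, Category.assoc]
  rw [e]
  exact h

lemma IsUniv.of_natIso {ρ' : D ⥤ C} (e : ρ ≅ ρ') (h : IsUniv ρ Z W c) :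
    IsUniv ρ' Z W (e.inv.app W ≫ c) := by
  intro Y
  have hb : Function.Bijective (fun x : ρ.obj Y ⟶ Z => e.inv.app Y ≫ x) :=
    ⟨fun _ _ hxy => (cancel_epi _).1 hxy, fun w => ⟨e.hom.app Y ≫ w, by simp⟩⟩
  have h' := hb.comp (h Y)
  convert h' using 1
  funext g
  dsimp only [Function.comp]
  rw [← Category.assoc, ← Category.assoc, e.inv.naturality g]

lemma IsUniv.of_iso_target {Z' : C} (e : Z ≅ Z') (h : IsUniv ρ Z W c) :
    IsUniv ρ Z' W (c ≫ e.hom) := by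
  intro Y
  have hb : Function.Bijective (fun x : ρ.obj Y ⟶ Z => x ≫ e.hom) :=
    ⟨fun _ _ hxy => (cancel_mono _).1 hxy, fun w => ⟨w ≫ e.inv, by simp⟩⟩
  have h' := hb.comp (h Y)
  convert h' using 1
  funext g
  dsimp only [Function.comp]
  rw [Category.assoc]

lemma IsUniv.of_iso_source {W' : D} (e : W' ≅ W) (h : IsUniv ρ Z W c) :
    IsUniv ρ Z W' (ρ.map e.hom ≫ c) := by
  intro Y
  have hb : Function.Bijective (fun x : Y ⟶ W' => x ≫ e.hom) :=
    ⟨fun _ _ hxy => (cancel_mono _).1 hxy, fun w => ⟨w ≫ e.inv, by simp⟩⟩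
  have h' := (h Y).comp hb
  convert h' using 1
  funext g
  dsimp only [Function.comp]
  rw [Functor.map_comp, Category.assoc]

lemma IsUniv.of_fullyFaithful (F : C ⥤ C') [F.Full] [F.Faithful] (h : IsUniv ρ Z W c) :
    IsUniv (ρ ⋙ F) (F.obj Z) W (F.map c) := by
  intro Y
  have hb : Function.Bijective (fun x : ρ.obj Y ⟶ Z => F.map x) :=
    ⟨fun _ _ hxy => F.map_injective hxy, fun w => F.map_surjective w⟩
  have h' := hb.comp (h Y)
  change Function.Bijective (fun g : Y ⟶ W => F.map (ρ.map g) ≫ F.map c)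
  have e : (fun g : Y ⟶ W => F.map (ρ.map g) ≫ F.map c) =
      (fun x => F.map x) ∘ fun g => ρ.map g ≫ c := by
    funext g
    dsimp only [Function.comp]
    rw [Functor.map_comp]
  rw [e]
  exact h'

/-- test objects may be replaced by isomorphic ones -/
lemma isUniv_of_essSurj {ι : Type*} (obj : ι → D) (hobj : ∀ Y : D, ∃ i, Nonempty (obj i ≅ Y))
    (h : ∀ i, Function.Bijective (fun g : obj i ⟶ W => ρ.map g ≫ c)) : IsUniv ρ Z W c := by
  intro Y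
  obtain ⟨i, ⟨e⟩⟩ := hobj Y
  have h1 : Function.Bijective (fun x : Y ⟶ W => e.hom ≫ x) :=
    ⟨fun _ _ hxy => (cancel_epi _).1 hxy, fun w => ⟨e.inv ≫ w, by simp⟩⟩
  have h2 : Function.Bijective (fun x : ρ.obj (obj i) ⟶ Z => ρ.map e.inv ≫ x) :=
    ⟨fun _ _ hxy => (cancel_epi _).1 hxy, fun w => ⟨ρ.map e.hom ≫ w, by
      simp only [← Category.assoc, ← Functor.map_comp, Iso.inv_hom_id, CategoryTheory.Functor.map_id,
        Category.id_comp]⟩⟩
  have h' := h2.comp ((h i).comp h1)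
  convert h' using 1
  funext g
  dsimp only [Function.comp]
  rw [Functor.map_comp, Category.assoc, ← Category.assoc, ← Functor.map_comp, Iso.inv_hom_id,
    CategoryTheory.Functor.map_id, Category.id_comp]

end Univ

section Shift

variable [HasShift C ℤ] [HasShift D ℤ] {ρ : D ⥤ C} [ρ.CommShift ℤ] {Z : C} {W : D}
  {c : ρ.obj W ⟶ Z}

lemma IsUniv.shift (h : IsUniv ρ Z W c) (a : ℤ) :
    IsUniv ρ (Z⟦a⟧) (W⟦a⟧) ((ρ.commShiftIso a).hom.app W ≫ c⟦a⟧') := by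
  intro Y
  let ey : (Y⟦-a⟧)⟦a⟧ ≅ Y := shiftNegShift Y a
  let A : (Y⟦-a⟧ ⟶ W) → (Y ⟶ W⟦a⟧) := fun g' => ey.inv ≫ g'⟦a⟧'
  have hA : Function.Bijective A := by
    have h1 : Function.Bijective (fun g' : Y⟦-a⟧ ⟶ W => g'⟦a⟧') :=
      ⟨fun _ _ hxy => (shiftFunctor D a).map_injective hxy,
        fun w => (shiftFunctor D a).map_surjective w⟩
    have h2 : Function.Bijective (fun x : (Y⟦-a⟧)⟦a⟧ ⟶ W⟦a⟧ => ey.inv ≫ x) :=
      ⟨fun _ _ hxy => (cancel_epi _).1 hxy, fun w => ⟨ey.hom ≫ w, by simp⟩⟩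
    exact h2.comp h1
  have hB : Function.Bijective (fun g' : Y⟦-a⟧ ⟶ W =>
      ρ.map ey.inv ≫ (ρ.commShiftIso a).hom.app (Y⟦-a⟧) ≫ (ρ.map g' ≫ c)⟦a⟧') := by
    have h1 : Function.Bijective (fun x : ρ.obj (Y⟦-a⟧) ⟶ Z => x⟦a⟧') :=
      ⟨fun _ _ hxy => (shiftFunctor C a).map_injective hxy,
        fun w => (shiftFunctor C a).map_surjective w⟩
    have h2 : Function.Bijective (fun x : (ρ.obj (Y⟦-a⟧))⟦a⟧ ⟶ Z⟦a⟧ =>
        ρ.map ey.inv ≫ (ρ.commShiftIso a).hom.app (Y⟦-a⟧) ≫ x) :=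
      ⟨fun _ _ hxy => by
          have := (cancel_epi _).1 hxy
          exact (cancel_epi _).1 this,
        fun w => ⟨(ρ.commShiftIso a).inv.app (Y⟦-a⟧) ≫ ρ.map ey.hom ≫ w, by
          dsimp only
          rw [Iso.hom_inv_id_app_assoc, ← Category.assoc, ← Functor.map_comp,
            Iso.inv_hom_id, CategoryTheory.Functor.map_id, Category.id_comp]⟩⟩
    exact h2.comp (h1.comp (h (Y⟦-a⟧)))
  refine (Function.Bijective.of_comp_iff _ hA).1 ?_
  convert hB using 1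
  funext g'
  dsimp only [Function.comp, A]
  have hn := (ρ.commShiftIso a).hom.naturality g'
  dsimp only [Functor.comp_map] at hn
  rw [Functor.map_comp, Functor.map_comp, Category.assoc, reassoc_of% hn]

end Shift

section Couniv

/-- `u : K ⟶ ρ Z` is a universal arrow from the object `K` to the functor `ρ`. -/
def IsCouniv (ρ : D ⥤ C) (K : C) (Z : D) (u : K ⟶ ρ.obj Z) : Prop :=
  ∀ X : D, Function.Bijective (fun g : Z ⟶ X => u ≫ ρ.map g)

variable {ρ : D ⥤ C} {K : C} {Z : D} {u : K ⟶ ρ.obj Z}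

lemma isCouniv_unit {L : C ⥤ D} (adj : L ⊣ ρ) (K : C) :
    IsCouniv ρ K (L.obj K) (adj.unit.app K) := by
  intro X
  have h := (adj.homEquiv K X).bijective
  convert h using 1
  funext g
  exact (adj.homEquiv_unit K X g).symm

lemma IsCouniv.exists_iso (h : IsCouniv ρ K Z u) {Z' : D} {u' : K ⟶ ρ.obj Z'}
    (h' : IsCouniv ρ K Z' u') : ∃ e : Z ≅ Z', u ≫ ρ.map e.hom = u' := by
  obtain ⟨a, ha⟩ := (h Z').2 u'
  obtain ⟨b, hb⟩ := (h' Z).2 u
  have ha' : u ≫ ρ.map a = u' := ha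
  have hb' : u' ≫ ρ.map b = u := hb
  have h1 : a ≫ b = 𝟙 Z := by
    apply (h Z).1
    change u ≫ ρ.map (a ≫ b) = u ≫ ρ.map (𝟙 Z)
    rw [Functor.map_comp, ← Category.assoc, ha', hb', CategoryTheory.Functor.map_id, Category.comp_id]
  have h2 : b ≫ a = 𝟙 Z' := by
    apply (h' Z').1
    change u' ≫ ρ.map (b ≫ a) = u' ≫ ρ.map (𝟙 Z')
    rw [Functor.map_comp, ← Category.assoc, hb', ha', CategoryTheory.Functor.map_id, Category.comp_id]
  exact ⟨⟨a, b, h1, h2⟩, ha'⟩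

lemma IsCouniv.comp {ρ₂ : E ⥤ D} {V : E} {w : Z ⟶ ρ₂.obj V} (h₁ : IsCouniv ρ K Z u)
    (h₂ : IsCouniv ρ₂ Z V w) : IsCouniv (ρ₂ ⋙ ρ) K V (u ≫ ρ.map w) := by
  intro X
  have h := (h₁ (ρ₂.obj X)).comp (h₂ X)
  change Function.Bijective (fun g : V ⟶ X => (u ≫ ρ.map w) ≫ ρ.map (ρ₂.map g))
  have e : (fun g : V ⟶ X => (u ≫ ρ.map w) ≫ ρ.map (ρ₂.map g)) =
      (fun g => u ≫ ρ.map g) ∘ fun g => w ≫ ρ₂.map g := by
    funext g
    dsimp only [Function.comp]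
    rw [Functor.map_comp, Category.assoc]
  rw [e]
  exact h

lemma IsCouniv.of_natIso {ρ' : D ⥤ C} (e : ρ ≅ ρ') (h : IsCouniv ρ K Z u) :
    IsCouniv ρ' K Z (u ≫ e.hom.app Z) := by
  intro X
  have hb : Function.Bijective (fun x : K ⟶ ρ.obj X => x ≫ e.hom.app X) :=
    ⟨fun _ _ hxy => (cancel_mono _).1 hxy, fun w => ⟨w ≫ e.inv.app X, by simp⟩⟩
  have h' := hb.comp (h X)
  convert h' using 1
  funext g
  dsimp only [Function.comp]
  rw [Category.assoc, Category.assoc, e.hom.naturality g]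

lemma IsCouniv.of_iso_source {K' : C} (e : K' ≅ K) (h : IsCouniv ρ K Z u) :
    IsCouniv ρ K' Z (e.hom ≫ u) := by
  intro X
  have hb : Function.Bijective (fun x : K ⟶ ρ.obj X => e.hom ≫ x) :=
    ⟨fun _ _ hxy => (cancel_epi _).1 hxy, fun w => ⟨e.inv ≫ w, by simp⟩⟩
  have h' := hb.comp (h X)
  convert h' using 1
  funext g
  dsimp only [Function.comp]
  rw [Category.assoc]

lemma IsCouniv.of_iso_target {Z' : D} (e : Z ≅ Z') (h : IsCouniv ρ K Z u) :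
    IsCouniv ρ K Z' (u ≫ ρ.map e.hom) := by
  intro X
  have hb : Function.Bijective (fun x : Z' ⟶ X => e.hom ≫ x) :=
    ⟨fun _ _ hxy => (cancel_epi _).1 hxy, fun w => ⟨e.inv ≫ w, by simp⟩⟩
  have h' := (h X).comp hb
  convert h' using 1
  funext g
  dsimp only [Function.comp]
  rw [Functor.map_comp, Category.assoc]

end Couniv

end Groth.Agent.Lib.Helper90.Shriek
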