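import Groth.Agent.Lib.Helper90.Shriek.CxLevel
import Groth.Agent.Lib.Helper90.Shriek.Univ
import Groth.Agent.Lib.Helper26.AdjKProj
import Groth.Agent.Lib.Helper32.LBC

/-!
# `SecData`: the key lemma at the derived level (helper90)

For `N₀` a K-projective complex of `P`-modules, the connecting map
`(N₀)_θ ⟶ (T ⊗_P N₀)[1]` exhibits `Q N₀` as the value at `(T ⊗_P N₀)[1]` of a (pointwise) right
adjoint of restriction of scalars along `θ : T → P`.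
-/

set_option autoImplicit false
set_option linter.unusedSectionVars false
set_option linter.style.haveILetI false
universe u
open CategoryTheory CategoryTheory.Limits CategoryTheory.Pretriangulated DerivedCategory
attribute [local instance] HasDerivedCategory.standard

namespace Groth.Agent.Lib.Helper90.Shriek

open Groth.Agent.Lib.Helper26.AdjKProj Groth.Agent.Lib.Helper26.KProjQ
  Groth.Agent.Lib.Helper6.DerivedAdj

namespace SecData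

variable {P T : Type u} [CommRing P] [CommRing T] (D : SecData P T)

/-- `Q (T ⊗_P N₀)` -/
noncomputable abbrev AQ (N₀ : DRing.Cx P) : Dual.D T := Q.obj (D.Ec.obj N₀)
/-- `Q ((N₀)_θ)` -/
noncomputable abbrev BQ (N₀ : DRing.Cx P) : Dual.D T := Q.obj (D.Rθc.obj N₀)

/-- the connecting morphism -/
noncomputable def del (N₀ : DRing.Cx P) : D.BQ N₀ ⟶ (D.AQ N₀)⟦(1 : ℤ)⟧ :=
  triangleOfSESδ (D.scC_shortExact N₀)

lemma tri_dist (N₀ : DRing.Cx P) :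
    Triangle.mk (Q.map (D.tauC.app N₀)) (Q.map (D.piC.app N₀)) (D.del N₀) ∈
      distTriang (Dual.D T) :=
  triangleOfSES_distinguished (D.scC_shortExact N₀)

/-- the morphism of short complexes induced by a morphism of complexes -/
noncomputable def scCMap {Y₀ N₀ : DRing.Cx P} (g₀ : Y₀ ⟶ N₀) : D.scC Y₀ ⟶ D.scC N₀ where
  τ₁ := D.Ec.map g₀
  τ₂ := D.Ec.map g₀
  τ₃ := D.Rθc.map g₀
  comm₁₂ := D.tauC.naturality g₀
  comm₂₃ := D.piC.naturality g₀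

lemma del_naturality {Y₀ N₀ : DRing.Cx P} (g₀ : Y₀ ⟶ N₀) :
    D.del Y₀ ≫ (Q.map (D.Ec.map g₀))⟦(1 : ℤ)⟧' = Q.map (D.Rθc.map g₀) ≫ D.del N₀ :=
  triangleOfSESδ_naturality (D.scC_shortExact Y₀) (D.scC_shortExact N₀) (D.scCMap g₀)

lemma Q_tauC (N₀ : DRing.Cx P) : Q.map (D.tauC.app N₀) = D.t • 𝟙 (D.AQ N₀) := by
  rw [D.tauC_eq, Functor.map_smul, CategoryTheory.Functor.map_id]

lemma t_smul_BQ (N₀ : DRing.Cx P) : D.t • 𝟙 (D.BQ N₀) = 0 := by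
  have h := congrArg (fun f => Q.map f) (D.t_smul_Rθc N₀)
  rw [Functor.map_smul, CategoryTheory.Functor.map_id, Functor.map_zero] at h
  exact h

/-- the arrow -/
noncomputable def cArrow (N₀ : DRing.Cx P) :
    (DRing.restrictD D.θ).obj (Q.obj N₀) ⟶ (D.AQ N₀)⟦(1 : ℤ)⟧ :=
  (DTen.resFactors D.θ).hom.app N₀ ≫ D.del N₀


section Conj

variable {M M' M'' : DRing.Cx T}

/-- transport a morphism of complexes of `P`-modules between restrictions to `D(P)` -/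
noncomputable def conj (u : D.Rιc.obj M ⟶ D.Rιc.obj M') :
    (DRing.restrictD D.ι).obj (Q.obj M) ⟶ (DRing.restrictD D.ι).obj (Q.obj M') :=
  (DTen.resFactors D.ι).hom.app M ≫ Q.map u ≫ (DTen.resFactors D.ι).inv.app M'

lemma conj_comp (u : D.Rιc.obj M ⟶ D.Rιc.obj M') (v : D.Rιc.obj M' ⟶ D.Rιc.obj M'') :
    D.conj u ≫ D.conj v = D.conj (u ≫ v) := by
  dsimp only [conj]
  rw [Category.assoc, Category.assoc, Iso.inv_hom_id_app_assoc, Functor.map_comp, Category.assoc]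

lemma conj_id : D.conj (𝟙 (D.Rιc.obj M)) = 𝟙 _ := by
  dsimp only [conj]
  rw [CategoryTheory.Functor.map_id]
  exact (congrArg (_ ≫ ·) (Category.id_comp _)).trans (Iso.hom_inv_id_app _ _)

lemma conj_map (f : M ⟶ M') : D.conj (D.Rιc.map f) = (DRing.restrictD D.ι).map (Q.map f) := by
  dsimp only [conj]
  have h := (DTen.resFactors D.ι).hom.naturality f
  dsimp only [Functor.comp_map] at h
  rw [← reassoc_of% h, Iso.hom_inv_id_app]
  exact Category.comp_id _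

end Conj

/-- the `P`-linear section of `π` on complexes -/
noncomputable def sigC (N₀ : DRing.Cx P) : D.Rιc.obj (D.Rθc.obj N₀) ⟶ D.Rιc.obj (D.Ec.obj N₀) :=
  (D.kapC N₀).inv ≫ (DTen.unitCx D.ι).app N₀

lemma sigC_piC (N₀ : DRing.Cx P) : D.sigC N₀ ≫ D.Rιc.map (D.piC.app N₀) = 𝟙 _ := by
  dsimp only [sigC]
  rw [Category.assoc, D.unitC_piC, Iso.inv_hom_id]

lemma res_tau_conj_rho (N₀ : DRing.Cx P) :
    (DRing.restrictD D.ι).map (Q.map (D.tauC.app N₀)) ≫ D.conj (D.rhoC N₀) = 𝟙 _ := by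
  rw [← conj_map, conj_comp, D.tauC_rhoC, conj_id]

lemma conj_sig_res_pi (N₀ : DRing.Cx P) :
    D.conj (D.sigC N₀) ≫ (DRing.restrictD D.ι).map (Q.map (D.piC.app N₀)) = 𝟙 _ := by
  rw [← conj_map, conj_comp, D.sigC_piC, conj_id]

/-- the derived adjunction bijection for `T ⊗_P -` -/
noncomputable abbrev adjD (Y₀ : DRing.Cx P) (M : Dual.D T) (g : D.AQ Y₀ ⟶ M) :
    Q.obj Y₀ ⟶ (DRing.restrictD D.ι).obj M :=
  adjunctD D.adj Y₀ M g

lemma bijective_adjD (Y₀ : DRing.Cx P) [Y₀.IsKProjective] (M : Dual.D T) :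
    Function.Bijective (D.adjD Y₀ M) :=
  bijective_adjunctD D.adj Y₀ M

lemma adjD_comp (Y₀ : DRing.Cx P) {M M' : Dual.D T} (g : D.AQ Y₀ ⟶ M) (e : M ⟶ M') :
    D.adjD Y₀ M' (g ≫ e) = D.adjD Y₀ M g ≫ (DRing.restrictD D.ι).map e :=
  adjunctD_comp D.adj Y₀ g e

/-- every map `Q(T ⊗ Y₀) ⟶ Q((N₀)_θ)` lifts along `π`. -/
lemma exists_lift_pi (Y₀ N₀ : DRing.Cx P) [Y₀.IsKProjective] (x : D.AQ Y₀ ⟶ D.BQ N₀) :
    ∃ x' : D.AQ Y₀ ⟶ D.AQ N₀, x' ≫ Q.map (D.piC.app N₀) = x := by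
  obtain ⟨x', hx'⟩ := (D.bijective_adjD Y₀ (D.AQ N₀)).2 (D.adjD Y₀ _ x ≫ D.conj (D.sigC N₀))
  refine ⟨x', (D.bijective_adjD Y₀ (D.BQ N₀)).1 ?_⟩
  rw [adjD_comp, hx', Category.assoc, conj_sig_res_pi, Category.comp_id]


lemma pi_comp_eq_zero (Y₀ N₀ : DRing.Cx P) [Y₀.IsKProjective]
    (h₁ : D.BQ Y₀ ⟶ (D.AQ N₀)⟦(1 : ℤ)⟧) : Q.map (D.piC.app Y₀) ≫ h₁ = 0 := by
  have h1 : Q.map (D.tauC.app Y₀) ≫ Q.map (D.piC.app Y₀) ≫ h₁ = 0 := by
    rw [← Category.assoc, ← Functor.map_comp, D.tauC_piC, Functor.map_zero, zero_comp]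
  have h2 : (Q.map (D.piC.app Y₀) ≫ h₁) ≫ (Q.map (D.tauC.app N₀))⟦(1 : ℤ)⟧' = 0 := by
    rw [D.Q_tauC, Functor.map_smul, CategoryTheory.Functor.map_id, Linear.comp_smul,
      Category.comp_id]
    rw [D.Q_tauC, Linear.smul_comp, Category.id_comp] at h1
    exact h1
  obtain ⟨x', hx'⟩ := Triangle.coyoneda_exact₁ _ (D.tri_dist N₀) (Q.map (D.piC.app Y₀) ≫ h₁) h2
  obtain ⟨x'', rfl⟩ := D.exists_lift_pi Y₀ N₀ x'
  refine hx'.trans ?_
  change (x'' ≫ Q.map (D.piC.app N₀)) ≫ D.del N₀ = 0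
  have h3 : Q.map (D.piC.app N₀) ≫ D.del N₀ = 0 := comp_distTriang_mor_zero₂₃ _ (D.tri_dist N₀)
  rw [Category.assoc, h3, comp_zero]

lemma adjunct_Ec_pi {Y₀ N₀ : DRing.Cx P} (f₀ : Y₀ ⟶ N₀) :
    adjunct D.adj (D.Ec.map f₀ ≫ D.piC.app N₀) = f₀ ≫ (D.kapC N₀).hom := by
  refine HomologicalComplex.hom_ext _ _ (fun i => ?_)
  change D.adj.unit.app (Y₀.X i) ≫ D.Rι.map (D.E.map (f₀.f i) ≫ D.piNat.app (N₀.X i)) =
    f₀.f i ≫ D.kap.hom.app (N₀.X i)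
  rw [Functor.map_comp, ← Category.assoc]
  have h := D.adj.unit.naturality (f₀.f i)
  dsimp only [Functor.id_map, Functor.comp_map] at h
  rw [← h, Category.assoc, D.unit_pi]

lemma surj_core (Y₀ N₀ : DRing.Cx P) [Y₀.IsKProjective]
    (h₁ : D.BQ Y₀ ⟶ (D.AQ N₀)⟦(1 : ℤ)⟧) :
    ∃ f₀ : Y₀ ⟶ N₀, Q.map (D.Rθc.map f₀) ≫ D.del N₀ = h₁ := by
  obtain ⟨h', hh'⟩ : ∃ h' : (D.AQ Y₀)⟦(1 : ℤ)⟧ ⟶ (D.AQ N₀)⟦(1 : ℤ)⟧, h₁ = D.del Y₀ ≫ h' :=
    Triangle.yoneda_exact₃ _ (D.tri_dist Y₀) h₁ (D.pi_comp_eq_zero Y₀ N₀ h₁)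
  obtain ⟨h'', rfl⟩ : ∃ h'' : D.AQ Y₀ ⟶ D.AQ N₀, h''⟦(1 : ℤ)⟧' = h' :=
    (shiftFunctor (Dual.D T) (1 : ℤ)).map_surjective h'
  obtain ⟨f₀, hf₀⟩ := Q_map_surjective Y₀ N₀
    (D.adjD Y₀ _ (h'' ≫ Q.map (D.piC.app N₀)) ≫
      (DTen.resFactors D.ι).hom.app (D.Rθc.obj N₀) ≫ Q.map (D.kapC N₀).inv)
  refine ⟨f₀, ?_⟩
  have key : Q.map (D.Ec.map f₀) ≫ Q.map (D.piC.app N₀) = h'' ≫ Q.map (D.piC.app N₀) := by
    apply (D.bijective_adjD Y₀ _).1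
    rw [← Functor.map_comp]
    dsimp only [adjD]
    rw [adjunctD_Q_map, D.adjunct_Ec_pi, Functor.map_comp, hf₀]
    simp only [Category.assoc]
    rw [← Functor.map_comp_assoc, Iso.inv_hom_id, CategoryTheory.Functor.map_id, Category.id_comp,
      Iso.hom_inv_id_app]
    exact Category.comp_id _
  have hsub : (h'' - Q.map (D.Ec.map f₀)) ≫ Q.map (D.piC.app N₀) = 0 := by
    rw [Preadditive.sub_comp, key, sub_self]
  obtain ⟨d', hd'⟩ : ∃ d' : D.AQ Y₀ ⟶ D.AQ N₀,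
      h'' - Q.map (D.Ec.map f₀) = d' ≫ Q.map (D.tauC.app N₀) :=
    Triangle.coyoneda_exact₂ _ (D.tri_dist N₀) _ hsub
  have hd'' : h'' - Q.map (D.Ec.map f₀) = Q.map (D.tauC.app Y₀) ≫ d' := by
    rw [hd']
    rw [D.Q_tauC, D.Q_tauC, Linear.comp_smul, Linear.smul_comp, Category.comp_id, Category.id_comp]
  have hz : D.del Y₀ ≫ (h'' - Q.map (D.Ec.map f₀))⟦(1 : ℤ)⟧' = 0 := by
    rw [hd'', Functor.map_comp, ← Category.assoc]
    have h3 : D.del Y₀ ≫ (Q.map (D.tauC.app Y₀))⟦(1 : ℤ)⟧' = 0 :=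
      comp_distTriang_mor_zero₃₁ _ (D.tri_dist Y₀)
    rw [h3, zero_comp]
  rw [Functor.map_sub, Preadditive.comp_sub, sub_eq_zero] at hz
  rw [← D.del_naturality, ← hz, hh']


lemma inj_core (Y₀ N₀ : DRing.Cx P) (f₀ : Y₀ ⟶ N₀)
    (h : Q.map (D.Rθc.map f₀) ≫ D.del N₀ = 0) : Q.map f₀ = 0 := by
  obtain ⟨w, hw⟩ : ∃ w : D.BQ Y₀ ⟶ D.AQ N₀,
      Q.map (D.Rθc.map f₀) = w ≫ Q.map (D.piC.app N₀) :=
    Triangle.coyoneda_exact₃ _ (D.tri_dist N₀) _ h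
  have hw0 : w ≫ Q.map (D.tauC.app N₀) = 0 := by
    rw [D.Q_tauC, Linear.comp_smul, Category.comp_id, ← Category.id_comp w, ← Linear.smul_comp,
      D.t_smul_BQ, zero_comp]
  have hw1 : (DRing.restrictD D.ι).map w = 0 := by
    have h1 := congrArg (fun x => (DRing.restrictD D.ι).map x ≫ D.conj (D.rhoC N₀)) hw0
    rw [Functor.map_comp, Category.assoc, D.res_tau_conj_rho, Functor.map_zero, zero_comp] at h1
    exact (Category.comp_id _).symm.trans h1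
  have h2 : (DRing.restrictD D.ι).map (Q.map (D.Rθc.map f₀)) = 0 := by
    rw [hw, Functor.map_comp, hw1, zero_comp]
  rw [← conj_map] at h2
  have h3 : Q.map (D.Rιc.map (D.Rθc.map f₀)) = 0 := by
    dsimp only [conj] at h2
    have h2' := (cancel_epi _).1 (h2.trans comp_zero.symm)
    exact (cancel_mono _).1 (h2'.trans zero_comp.symm)
  have h4 := congrArg (fun x => Q.map x) (D.kapC_naturality f₀)
  rw [Functor.map_comp, Functor.map_comp, h3, comp_zero] at h4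
  haveI : IsIso (Q.map (D.kapC N₀).hom) := inferInstance
  exact (cancel_mono (Q.map (D.kapC N₀).hom)).1 (h4.trans zero_comp.symm)

/-- **Key lemma.** `Q N₀` together with the connecting morphism is the value at
`(T ⊗_P N₀)[1]` of a right adjoint of restriction along `θ`. -/
theorem isUniv_cArrow (N₀ : DRing.Cx P) :
    IsUniv (DRing.restrictD D.θ) ((D.AQ N₀)⟦(1 : ℤ)⟧) (Q.obj N₀) (D.cArrow N₀) := by
  refine isUniv_of_essSurj (fun Y₀ : {Y₀ : DRing.Cx P // Y₀.IsKProjective} => Q.obj Y₀.1) ?_ ?_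
  · intro Y
    obtain ⟨Y₀, hY₀, ⟨e⟩⟩ := Groth.Agent.Lib.Helper32.LBC.exists_kproj_iso Y
    exact ⟨⟨Y₀, hY₀⟩, ⟨e⟩⟩
  · rintro ⟨Y₀, hY₀⟩
    haveI := hY₀
    have hnat : ∀ f₀ : Y₀ ⟶ N₀, (DRing.restrictD D.θ).map (Q.map f₀) ≫ D.cArrow N₀ =
        (DTen.resFactors D.θ).hom.app Y₀ ≫ Q.map (D.Rθc.map f₀) ≫ D.del N₀ := by
      intro f₀
      dsimp only [cArrow]
      have h := (DTen.resFactors D.θ).hom.naturality f₀
      dsimp only [Functor.comp_map] at h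
      rw [reassoc_of% h]
    constructor
    · intro g₁ g₂ hg
      dsimp only at hg
      obtain ⟨f₁, rfl⟩ := Q_map_surjective Y₀ N₀ g₁
      obtain ⟨f₂, rfl⟩ := Q_map_surjective Y₀ N₀ g₂
      rw [hnat, hnat] at hg
      have hg' := (cancel_epi _).1 hg
      have h0 : Q.map (D.Rθc.map (f₁ - f₂)) ≫ D.del N₀ = 0 := by
        rw [Functor.map_sub, Functor.map_sub, Preadditive.sub_comp, hg', sub_self]
      have h1 := D.inj_core Y₀ N₀ (f₁ - f₂) h0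
      rw [Functor.map_sub, sub_eq_zero] at h1
      exact h1
    · intro h
      obtain ⟨f₀, hf₀⟩ := D.surj_core Y₀ N₀ ((DTen.resFactors D.θ).inv.app Y₀ ≫ h)
      refine ⟨Q.map f₀, ?_⟩
      dsimp only
      rw [hnat, hf₀, Iso.hom_inv_id_app_assoc]

end SecData

end Groth.Agent.Lib.Helper90.Shriek
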